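import Cfsg.Agent.Lib.J2Sylow.Model
import Mathlib

/-!
# The coordinate group modulo its centre is a Sylow 2-subgroup of the alternating group of degree eight

* `altHom`, `range_le`, `ker_altHom`, `exists_sylow`
-/

set_option autoImplicit false
set_option maxRecDepth 100000

namespace Cfsg.Agent.J2Sylow.R0

open Equiv

/-- The table on the extraspecial subgroup. -/
def funQ (q : Q0) (i : Fin 8) : Fin 8 :=
  i ^^^ (bif decide (i.val < 4) then (bif q.v0 then 2 else 0) ^^^ (bif q.v2 then 3 else 0)
    else (bif q.v1 then 2 else 0) ^^^ (bif q.v3 then 3 else 0))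

/-- The table on the four-group. -/
def funS (s t : Bool) (i : Fin 8) : Fin 8 :=
  i ^^^ ((bif s && decide (i.val % 4 < 2) then 1 else 0) ^^^ (bif t then 4 else 0))

theorem funQ_mul : ∀ (q r : Q0) (i : Fin 8), funQ (q * r) i = funQ q (funQ r i) := by decide +kernel

theorem funS_mul : ∀ (s t s' t' : Bool) (i : Fin 8),
    funS (xor s s') (xor t t') i = funS s t (funS s' t' i) := by decide +kernel

theorem funS_act : ∀ (s t : Bool) (q : Q0) (i : Fin 8),
    funQ (Q0.act s t q) (funS s t i) = funS s t (funQ q i) := by decide +kernel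

/-- The table of a coordinate. -/
def funR (x : R0) (i : Fin 8) : Fin 8 := funQ x.q (funS x.s x.t i)

theorem funR_mul (x y : R0) (i : Fin 8) : funR (x * y) i = funR x (funR y i) :=
  ((funQ_mul x.q (Q0.act x.s x.t y.q) _).trans (congrArg (funQ x.q)
    ((congrArg (funQ (Q0.act x.s x.t y.q)) (funS_mul x.s x.t y.s y.t i)).trans
      (funS_act x.s x.t y.q (funS y.s y.t i)))))

theorem funR_one : ∀ i, funR 1 i = i := by decide +kernel

/-- The map into the symmetric group of degree eight. -/
def toPerm (x : R0) : Perm (Fin 8) where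
  toFun := funR x
  invFun := funR x⁻¹
  left_inv i := by rw [← funR_mul, inv_mul_cancel, funR_one]
  right_inv i := by rw [← funR_mul, mul_inv_cancel, funR_one]

theorem toPerm_apply (x : R0) (i : Fin 8) : toPerm x i = funR x i := rfl

/-- The homomorphism. -/
def altHom : R0 →* Perm (Fin 8) where
  toFun := toPerm
  map_one' := Equiv.ext fun i => (toPerm_apply 1 i).trans (funR_one i)
  map_mul' x y := Equiv.ext fun i => funR_mul x y i

theorem altHom_apply (x : R0) : altHom x = toPerm x := rfl

theorem sign_letters : (∀ i : Fin 5, Perm.sign (toPerm (u i)) = 1) ∧ Perm.sign (toPerm z) = 1 ∧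
    Perm.sign (toPerm aa) = 1 ∧ Perm.sign (toPerm bb) = 1 := by decide +kernel

theorem sign_altHom (x : R0) : Perm.sign (toPerm x) = 1 := by
  obtain ⟨hu, hz, ha, hb⟩ := sign_letters
  obtain ⟨a, b, c, d, e, f, g, rfl⟩ := generated x
  have hc : ∀ (v : Bool) (y : R0), Perm.sign (altHom y) = 1 →
      Perm.sign (altHom (bif v then y else 1)) = 1 := by
    intro v y hy
    cases v
    · rw [cond_false, map_one, map_one]
    · rw [cond_true, hy]
  rw [← altHom_apply]
  simp only [map_mul, hc _ _ (hu 0), hc _ _ (hu 1), hc _ _ (hu 2), hc _ _ (hu 3), hc _ _ hz, hc _ _ ha,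
    hc _ _ hb, one_mul]

theorem fun_ker : ∀ x : R0, (∀ i, funR x i = i) → x = 1 ∨ x = z := by decide +kernel

theorem ker_cases (x : R0) (h : ∀ i, toPerm x i = i) : x = 1 ∨ x = z := fun_ker x h

theorem fun_z : ∀ i, funR z i = i := by decide +kernel

theorem toPerm_z : toPerm z = 1 := Equiv.ext fun_z

/-- The map into the alternating group. -/
def toAlt : R0 →* alternatingGroup (Fin 8) :=
  altHom.codRestrict _ fun x => Perm.mem_alternatingGroup.2 (sign_altHom x)

theorem mem_ker_toAlt {x : R0} : x ∈ toAlt.ker ↔ x = 1 ∨ x = z := by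
  rw [MonoidHom.mem_ker]
  constructor
  · intro h
    have h2 : toPerm x = 1 := congrArg Subtype.val h
    exact ker_cases x fun i => by rw [h2]; rfl
  · rintro (rfl | rfl)
    · exact map_one _
    · exact Subtype.ext toPerm_z

theorem card_ker_toAlt : Nat.card toAlt.ker = 2 := by
  rw [← SetLike.coe_sort_coe, Nat.card_coe_set_eq, show (toAlt.ker : Set R0) = {1, z} from
    Set.ext fun x => mem_ker_toAlt, Set.ncard_pair (by decide +kernel)]

theorem card_range_toAlt : Nat.card toAlt.range = 64 := by
  have h := toAlt.ker.index_mul_card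
  rw [Subgroup.index_ker, card_ker_toAlt, natCard] at h
  omega

/-- The quotient by the centre is isomorphic to every Sylow 2-subgroup of the alternating group. -/
theorem exists_iso (P : Sylow 2 (alternatingGroup (Fin 8))) :
    Nonempty ((R0 ⧸ toAlt.ker) ≃* (P : Subgroup (alternatingGroup (Fin 8)))) := by
  haveI : Fact (Nat.Prime 2) := ⟨Nat.prime_two⟩
  have hcard : Nat.card (alternatingGroup (Fin 8)) = 20160 := by
    rw [nat_card_alternatingGroup, Nat.card_fin]
    decide
  let T : Sylow 2 (alternatingGroup (Fin 8)) := Sylow.ofCard toAlt.range (by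
    rw [card_range_toAlt, hcard]
    rw [show (20160 : ℕ).factorization 2 = 6 by
      rw [show (20160 : ℕ) = 2 ^ 6 * 315 by norm_num, Nat.factorization_mul (by norm_num) (by norm_num),
        Finsupp.add_apply, Nat.Prime.factorization_pow Nat.prime_two, Finsupp.single_eq_same,
        Nat.factorization_eq_zero_of_not_dvd (by norm_num)]]
    norm_num)
  exact ⟨(QuotientGroup.quotientKerEquivRange toAlt).trans (T.equiv P)⟩

end Cfsg.Agent.J2Sylow.R0
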