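import Cfsg.Agent.Lib.J2Sylow.Frame
import Cfsg.Agent.Lib.Solvable.Gaschutz

/-!
# An extension of the extraspecial group of order 32 by the alternating group of degree five

* `Five` : the hypotheses; `Five.exists_section` : the extension splits
* `Five.nonempty_mulEquiv` : any two such groups are isomorphic
-/

set_option autoImplicit false
set_option maxRecDepth 100000
set_option linter.style.haveILetI false

open Subgroup

namespace Cfsg.Agent.J2Sylow

theorem vA_mem : vA ∈ alternatingGroup (Fin 5) ∧ vB ∈ alternatingGroup (Fin 5) := by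
  simp only [Equiv.Perm.mem_alternatingGroup]
  decide +kernel

theorem four_mul : ∀ x ∈ ({1, vA, vB, vA * vB} : Finset (Equiv.Perm (Fin 5))),
    ∀ y ∈ ({1, vA, vB, vA * vB} : Finset (Equiv.Perm (Fin 5))),
      x * y ∈ ({1, vA, vB, vA * vB} : Finset (Equiv.Perm (Fin 5))) ∧ x * y = y * x ∧ x * x = 1 := by
  decide +kernel

/-- The four-group. -/
def fours : Subgroup (Equiv.Perm (Fin 5)) where
  carrier := ↑({1, vA, vB, vA * vB} : Finset (Equiv.Perm (Fin 5)))
  mul_mem' := fun hx hy => (four_mul _ hx _ hy).1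
  one_mem' := by simp
  inv_mem' := fun {x} hx => by
    rw [inv_eq_of_mul_eq_one_right (four_mul x hx x hx).2.2]
    exact hx

theorem mem_fours {x : Equiv.Perm (Fin 5)} :
    x ∈ fours ↔ x = 1 ∨ x = vA ∨ x = vB ∨ x = vA * vB := by
  show x ∈ (↑({1, vA, vB, vA * vB} : Finset (Equiv.Perm (Fin 5))) : Set (Equiv.Perm (Fin 5))) ↔ _
  simp

theorem fours_le : fours ≤ alternatingGroup (Fin 5) := by
  intro x hx
  rcases mem_fours.1 hx with rfl | rfl | rfl | rfl
  exacts [one_mem _, vA_mem.1, vA_mem.2, mul_mem vA_mem.1 vA_mem.2]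

theorem card_fours : Nat.card fours = 4 := by
  rw [← SetLike.coe_sort_coe, Nat.card_coe_set_eq,
    show (fours : Set (Equiv.Perm (Fin 5))) = ↑({1, vA, vB, vA * vB} : Finset (Equiv.Perm (Fin 5))) from rfl,
    Set.ncard_coe_finset]
  decide +kernel

theorem index_comap_fours {H : Type*} [Group H] (φ : H →* Equiv.Perm (Fin 5))
    (hφ : φ.range = alternatingGroup (Fin 5)) : (fours.comap φ).index = 15 := by
  rw [index_comap, hφ, Subgroup.relIndex]
  have h := (fours.subgroupOf (alternatingGroup (Fin 5))).index_mul_card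
  rw [Nat.card_congr (subgroupOfEquivOfLe fours_le).toEquiv, card_fours, nat_card_alternatingGroup, Nat.card_fin,
    show Nat.factorial 5 = 120 from rfl] at h
  omega

/-- An extension of the extraspecial group by the alternating group. -/
structure Five (H : Type*) [Group H] where
  F : Frame H
  φ : H →* Equiv.Perm (Fin 5)
  act : ∀ h i, h * F.u i * h⁻¹ = F.u (φ h i) ∨ h * F.u i * h⁻¹ = F.u (φ h i) * F.z
  ker : ∀ h, φ h = 1 → h ∈ F.hom.range
  range : φ.range = alternatingGroup (Fin 5)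
  lift_sq : ∀ h, φ h ∈ fours → φ h ≠ 1 → h * h = F.z → False
  a : H
  b : H
  a_sq : a * a = 1
  b_sq : b * b = 1
  ab : a * b = b * a
  φa : φ a = vA
  φb : φ b = vB

/-- A split extension with equivariant involutions. -/
structure Sect (H : Type*) [Group H] where
  F : Frame H
  sec : alternatingGroup (Fin 5) →* H
  equiv : ∀ σ i, sec σ * F.u i * (sec σ)⁻¹ = F.u ((σ : Equiv.Perm (Fin 5)) i)
  meet : ∀ σ, sec σ ∈ F.hom.range → σ = 1
  cover : ∀ h, ∃ σ, ∃ q ∈ F.hom.range, h = q * sec σ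

namespace Five

variable {H : Type*} [Group H] (D : Five H)

theorem conj_z (h : H) : h * D.F.z * h⁻¹ = D.F.z := by
  have e : ∀ i j, i ≠ j → D.F.u i * D.F.u j * (D.F.u i * D.F.u j) = D.F.z := by
    intro i j hij
    rw [show D.F.u i * D.F.u j * (D.F.u i * D.F.u j) = D.F.u i * (D.F.u j * D.F.u i) * D.F.u j by group,
      D.F.anti j i hij.symm, show D.F.u i * (D.F.u i * D.F.u j * D.F.z) * D.F.u j
        = D.F.u i * D.F.u i * D.F.u j * (D.F.z * D.F.u j) by group,
      D.F.u_sq, one_mul, D.F.z_u, ← mul_assoc, D.F.u_sq, one_mul]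
  have hne : D.φ h 0 ≠ D.φ h 1 := fun e' => absurd ((D.φ h).injective e') (by decide)
  conv_lhs => rw [← e 0 1 (by decide)]
  rw [show h * (D.F.u 0 * D.F.u 1 * (D.F.u 0 * D.F.u 1)) * h⁻¹ =
    h * D.F.u 0 * h⁻¹ * (h * D.F.u 1 * h⁻¹) * (h * D.F.u 0 * h⁻¹ * (h * D.F.u 1 * h⁻¹)) by group]
  have hz : ∀ i, D.F.u i * D.F.z = D.F.z * D.F.u i := fun i => (D.F.z_u i).symm
  rcases D.act h 0 with h0 | h0 <;> rcases D.act h 1 with h1 | h1 <;> rw [h0, h1] <;>
    simp only [mul_assoc, hz, D.F.z_u', D.F.z_sq'] <;>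
    rw [← mul_assoc (D.F.u (D.φ h 0)) (D.F.u (D.φ h 1))] <;>
    exact e _ _ hne

theorem comm_z (h : H) : h * D.F.z = D.F.z * h := mul_inv_eq_iff_eq_mul.1 (D.conj_z h)

theorem φ_u (i : Fin 5) : D.φ (D.F.u i) = 1 := by
  refine Equiv.ext fun j => ?_
  have hz : D.F.z ≠ 1 := D.F.z_ne
  have key : ∀ k l, (D.F.u k = D.F.u l ∨ D.F.u k = D.F.u l * D.F.z) → k = l := by
    intro k l hkl
    by_contra hne
    have h := D.F.anti k l hne
    rcases hkl with e | e <;> rw [e] at h
    · exact hz (mul_eq_left.1 h.symm)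
    · simp only [mul_assoc, D.F.z_u, D.F.z_sq, D.F.u_sq'] at h
      exact hz h
  refine key _ _ ?_
  by_cases hij : i = j
  · subst hij
    rcases D.act (D.F.u i) i with h | h <;> rw [mul_inv_cancel_right] at h
    · exact Or.inl h.symm
    · right
      show D.F.u (D.φ (D.F.u i) i) = D.F.u i * D.F.z
      conv_rhs => rw [h, mul_assoc, D.F.z_sq, mul_one]
  · have e : D.F.u i * D.F.u j * (D.F.u i)⁻¹ = D.F.u j * D.F.z := by
      rw [D.F.anti i j hij, mul_assoc (D.F.u j), ← D.F.z_u, ← mul_assoc, mul_inv_cancel_right]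
    rcases D.act (D.F.u i) j with h | h <;> rw [e] at h
    · exact Or.inr h.symm
    · exact Or.inl (mul_right_cancel h).symm

theorem φ_range {q : H} (hq : q ∈ D.F.hom.range) : D.φ q = 1 := by
  obtain ⟨q, rfl⟩ := hq
  induction q using Q0.induction with
  | h1 => rw [map_one, map_one]
  | hu i => rw [D.F.hom_u]; exact D.φ_u i
  | hz =>
    have e : Q0.z = Q0.u 0 * Q0.u 1 * (Q0.u 0 * Q0.u 1) := by decide +kernel
    rw [e, map_mul, map_mul, map_mul, map_mul, D.F.hom_u, D.F.hom_u, D.φ_u, D.φ_u]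
    simp
  | hmul q r h1 h2 => rw [map_mul, map_mul, h1, h2, one_mul]

theorem normal_range : D.F.hom.range.Normal := by
  constructor
  intro x hx h
  obtain ⟨q, rfl⟩ := hx
  induction q using Q0.induction with
  | h1 => rw [map_one, mul_one, mul_inv_cancel]; exact one_mem _
  | hu i =>
    rw [D.F.hom_u]
    rcases D.act h i with e | e <;> rw [e]
    · exact D.F.u_mem_range _
    · exact mul_mem (D.F.u_mem_range _) D.F.z_mem_range
  | hz => rw [D.F.hom_z, D.conj_z]; exact D.F.z_mem_range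
  | hmul q r h1 h2 => rw [map_mul, ← conj_mul]; exact mul_mem h1 h2

/-- A complement to the extraspecial subgroup. -/
theorem exists_complement [Finite H] :
    ∃ L : Subgroup H, (∀ l ∈ L, l ∈ D.F.hom.range → l = 1) ∧
      ∀ σ ∈ alternatingGroup (Fin 5), ∃ l ∈ L, D.φ l = σ := by
  haveI := D.normal_range
  set Q := D.F.hom.range with hQdef
  set Zs : Subgroup H := zpowers D.F.z with hZs
  have hZmem : ∀ x, x ∈ Zs → x = 1 ∨ x = D.F.z := by
    intro x hx
    obtain ⟨k, rfl⟩ := mem_zpowers_iff.1 hx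
    rcases Int.even_or_odd' k with ⟨m, rfl | rfl⟩
    · left; rw [zpow_mul, zpow_two, D.F.z_sq, one_zpow]
    · right; rw [zpow_add, zpow_mul, zpow_two, D.F.z_sq, one_zpow, one_mul, zpow_one]
  haveI hZn : Zs.Normal := ⟨fun x hx g => by
    rcases hZmem x hx with rfl | rfl
    · simp
    · rw [D.conj_z]; exact mem_zpowers _⟩
  have hZQ : Zs ≤ Q := zpowers_le.2 D.F.z_mem_range
  set π := QuotientGroup.mk' Zs with hπ
  have hker : ∀ {x : H}, π x = 1 ↔ x ∈ Zs := fun {x} => by
    rw [hπ, QuotientGroup.mk'_apply, QuotientGroup.eq_one_iff]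
  set K : Subgroup (H ⧸ Zs) := Q.map π with hK
  haveI : K.Normal := Normal.map inferInstance _ (QuotientGroup.mk'_surjective _)
  haveI : IsMulCommutative K := ⟨⟨fun x y => by
    obtain ⟨p, ⟨p', rfl⟩, hp⟩ := x.2
    obtain ⟨q, ⟨q', rfl⟩, hq⟩ := y.2
    refine Subtype.ext ?_
    show (x : H ⧸ Zs) * y = y * x
    rw [← hp, ← hq, ← map_mul, ← map_mul, ← map_mul, ← map_mul]
    refine QuotientGroup.eq.2 (?_ : (D.F.hom (p' * q'))⁻¹ * D.F.hom (q' * p') ∈ Zs)
    rw [← map_inv, ← map_mul]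
    have : ∀ p q : Q0, (p * q)⁻¹ * (q * p) = 1 ∨ (p * q)⁻¹ * (q * p) = Q0.z := by decide +kernel
    rcases this p' q' with e | e <;> rw [e]
    · rw [map_one]; exact one_mem _
    · rw [D.F.hom_z]; exact mem_zpowers _⟩⟩
  have hU0 : ∀ x, D.φ x ∈ fours ↔ x ∈ fours.comap D.φ := fun x => mem_comap.symm
  set U : Subgroup (H ⧸ Zs) := (fours.comap D.φ).map π with hUdef
  have hKU : K ≤ U := map_mono fun q hq => by
    rw [mem_comap, D.φ_range hq]; exact one_mem _
  have hU15 : U.index = 15 := by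
    rw [hUdef, index_map_eq _ (QuotientGroup.mk'_surjective _), index_comap_fours D.φ D.range]
    rw [QuotientGroup.ker_mk']
    exact hZQ.trans fun q hq => by rw [mem_comap, D.φ_range hq]; exact one_mem _
  have hcop : (Nat.card K).Coprime U.index := by
    rw [hU15]
    refine Nat.Coprime.coprime_dvd_left ((card_map_dvd Q π).trans ?_) (show Nat.Coprime 32 15 by norm_num)
    rw [hQdef, D.F.natCard_range]
  let A0 : Subgroup H :=
    { carrier := {1, D.a, D.b, D.a * D.b}
      one_mem' := by simp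
      mul_mem' := by
        have ha' : ∀ x, D.a * (D.a * x) = x := fun x => by rw [← mul_assoc, D.a_sq, one_mul]
        have hb' : ∀ x, D.b * (D.b * x) = x := fun x => by rw [← mul_assoc, D.b_sq, one_mul]
        have hab' : ∀ x, D.b * (D.a * x) = D.a * (D.b * x) := fun x => by rw [← mul_assoc, ← D.ab, mul_assoc]
        intro x y hx hy
        simp only [Set.mem_insert_iff, Set.mem_singleton_iff] at hx hy ⊢
        rcases hx with rfl | rfl | rfl | rfl <;> rcases hy with rfl | rfl | rfl | rfl <;>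
          simp [mul_assoc, D.a_sq, D.b_sq, ha', hb', hab', ← D.ab]
      inv_mem' := by
        intro x hx
        simp only [Set.mem_insert_iff, Set.mem_singleton_iff] at hx ⊢
        rcases hx with rfl | rfl | rfl | rfl
        · simp
        · simp [inv_eq_of_mul_eq_one_right D.a_sq]
        · simp [inv_eq_of_mul_eq_one_right D.b_sq]
        · simp [mul_inv_rev, inv_eq_of_mul_eq_one_right D.a_sq, inv_eq_of_mul_eq_one_right D.b_sq, D.ab] }
  have hA0 : ∀ x ∈ A0, D.φ x ∈ fours ∧ (D.φ x = 1 → x = 1) := by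
    intro x hx
    rcases hx with rfl | rfl | rfl | rfl
    · exact ⟨by rw [map_one]; exact one_mem _, fun _ => rfl⟩
    · rw [D.φa]; exact ⟨mem_fours.2 (by simp), fun h => absurd h (by decide +kernel)⟩
    · rw [D.φb]; exact ⟨mem_fours.2 (by simp), fun h => absurd h (by decide +kernel)⟩
    · rw [map_mul, D.φa, D.φb]; exact ⟨mem_fours.2 (by simp), fun h => absurd h (by decide +kernel)⟩
  have hAK : A0.map π ⊓ K = ⊥ := by
    refine (eq_bot_iff_forall _).2 fun y hy => ?_
    obtain ⟨x, hx, rfl⟩ := hy.1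
    obtain ⟨q, hq, hqx⟩ := hy.2
    have hmem : q⁻¹ * x ∈ Zs := QuotientGroup.eq.1 hqx
    have h1 := D.φ_range (hZQ hmem)
    rw [map_mul, map_inv, D.φ_range hq, inv_one, one_mul] at h1
    rw [(hA0 x hx).2 h1, map_one]
  have hKA : K ⊔ A0.map π = U := by
    refine le_antisymm (sup_le hKU (map_mono fun x hx => mem_comap.2 (hA0 x hx).1)) ?_
    rw [hK, ← Subgroup.map_sup]
    refine map_mono fun x hx => ?_
    obtain ⟨c, hc, hcx⟩ : ∃ c ∈ A0, D.φ c = D.φ x := by
      rcases mem_fours.1 (mem_comap.1 hx) with e | e | e | e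
      · exact ⟨1, one_mem _, by rw [e, map_one]⟩
      · exact ⟨D.a, by simp [A0], by rw [e, D.φa]⟩
      · exact ⟨D.b, by simp [A0], by rw [e, D.φb]⟩
      · exact ⟨D.a * D.b, by simp [A0], by rw [e, map_mul, D.φa, D.φb]⟩
    have hq : x * c⁻¹ ∈ Q := D.ker _ (by rw [map_mul, map_inv, hcx, mul_inv_cancel])
    have := mul_mem ((le_sup_left : Q ≤ Q ⊔ A0) hq) ((le_sup_right : A0 ≤ Q ⊔ A0) hc)
    rwa [inv_mul_cancel_right] at this
  obtain ⟨M', hM'⟩ := Solvable.gaschutz_exists hKU hcop hAK hKA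
  set M : Subgroup H := M'.comap π with hMdef
  have hMQ : ∀ x ∈ M, x ∈ Q → x ∈ Zs := by
    intro x hx hxQ
    rw [← hker, ← Subgroup.mem_bot, ← disjoint_iff.1 hM'.disjoint]
    exact ⟨mem_map_of_mem π hxQ, hx⟩
  have hMsurj : ∀ σ ∈ alternatingGroup (Fin 5), ∃ m ∈ M, D.φ m = σ := by
    intro σ hσ
    rw [← D.range] at hσ
    obtain ⟨h, rfl⟩ := hσ
    obtain ⟨k, hk, m', hm', e⟩ := Subgroup.mem_sup_of_normal_left.1
      (hM'.sup_eq_top ▸ mem_top (π h) : π h ∈ K ⊔ M')
    obtain ⟨q, hq, rfl⟩ := hk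
    refine ⟨q⁻¹ * h, ?_, by rw [map_mul, map_inv, D.φ_range hq, inv_one, one_mul]⟩
    rw [hMdef, mem_comap, map_mul, map_inv, ← e, inv_mul_cancel_left]
    exact hm'
  have hZM : Zs ≤ M := fun x hx => by rw [hMdef, mem_comap, hker.2 hx]; exact one_mem _
  have hrange : (D.φ.comp M.subtype).range = alternatingGroup (Fin 5) := by
    refine le_antisymm ?_ fun σ hσ => ?_
    · rw [← D.range]
      rintro _ ⟨x, rfl⟩
      exact ⟨_, rfl⟩
    · obtain ⟨m, hm, e⟩ := hMsurj σ hσ
      exact ⟨⟨m, hm⟩, e⟩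
  set U2 := fours.comap (D.φ.comp M.subtype) with hU2
  set K2 := Zs.subgroupOf M with hK2
  haveI : K2.Normal := hZn.subgroupOf M
  haveI : IsMulCommutative K2 := ⟨⟨fun x y => Subtype.ext (Subtype.ext (by
    show ((x : M) : H) * (y : M) = (y : M) * (x : M)
    rcases hZmem _ (mem_subgroupOf.1 x.2) with e | e <;> rcases hZmem _ (mem_subgroupOf.1 y.2) with e' | e' <;>
      simp [e, e']))⟩⟩
  have hK2U : K2 ≤ U2 := fun x hx => by
    rw [hU2, mem_comap, MonoidHom.comp_apply, Subgroup.coe_subtype, D.φ_range (hZQ (mem_subgroupOf.1 hx))]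
    exact one_mem _
  have hcop2 : (Nat.card K2).Coprime U2.index := by
    rw [hU2, index_comap_fours _ hrange, Nat.card_congr (subgroupOfEquivOfLe hZM).toEquiv, hZs, Nat.card_zpowers,
      orderOf_eq_prime (by rw [pow_two]; exact D.F.z_sq) D.F.z_ne]
    norm_num
  -- involutions above the four-group
  have hinv : ∀ x ∈ M, D.φ x ∈ fours → D.φ x ≠ 1 → x * x = 1 := by
    intro x hx hx4 hx1
    have h1 : D.φ (x * x) = 1 := by rw [map_mul]; exact (four_mul _ hx4 _ hx4).2.2
    rcases hZmem _ (hMQ _ (mul_mem hx hx) (D.ker _ h1)) with e | e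
    · exact e
    · exact (D.lift_sq x hx4 hx1 e).elim
  obtain ⟨x, hx, hxa⟩ := hMsurj vA vA_mem.1
  obtain ⟨y, hy, hyb⟩ := hMsurj vB vA_mem.2
  have hxf : D.φ x ∈ fours := by rw [hxa]; exact mem_fours.2 (by simp)
  have hyf : D.φ y ∈ fours := by rw [hyb]; exact mem_fours.2 (by simp)
  have hxyf : D.φ (x * y) ∈ fours := by rw [map_mul]; exact mul_mem hxf hyf
  have hx2 := hinv x hx hxf (by rw [hxa]; decide +kernel)
  have hy2 := hinv y hy hyf (by rw [hyb]; decide +kernel)
  have hxy2 := hinv _ (mul_mem hx hy) hxyf (by rw [map_mul, hxa, hyb]; decide +kernel)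
  have hcomm : x * y = y * x := by
    calc x * y = x * (x * y * (x * y)) * y := by rw [hxy2, mul_one]
      _ = (x * x) * (y * x) * (y * y) := by group
      _ = y * x := by rw [hx2, hy2, one_mul, mul_one]
  let A2 : Subgroup M :=
    { carrier := {m | (m : H) = 1 ∨ (m : H) = x ∨ (m : H) = y ∨ (m : H) = x * y}
      one_mem' := Or.inl rfl
      mul_mem' := by
        have hx' : ∀ w, x * (x * w) = w := fun w => by rw [← mul_assoc, hx2, one_mul]
        have hy' : ∀ w, y * (y * w) = w := fun w => by rw [← mul_assoc, hy2, one_mul]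
        have hxy' : ∀ w, y * (x * w) = x * (y * w) := fun w => by rw [← mul_assoc, ← hcomm, mul_assoc]
        intro m n hm hn
        simp only [Set.mem_ofPred_eq, Subgroup.coe_mul] at hm hn ⊢
        rcases hm with e | e | e | e <;> rcases hn with e' | e' | e' | e' <;>
          simp [e, e', mul_assoc, hx2, hy2, hx', hy', hxy', ← hcomm]
      inv_mem' := by
        intro m hm
        simp only [Set.mem_ofPred_eq, Subgroup.coe_inv] at hm ⊢
        rcases hm with e | e | e | e <;> rw [e]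
        · simp
        · simp [inv_eq_of_mul_eq_one_right hx2]
        · simp [inv_eq_of_mul_eq_one_right hy2]
        · simp [mul_inv_rev, inv_eq_of_mul_eq_one_right hx2, inv_eq_of_mul_eq_one_right hy2, hcomm] }
  have hA2 : ∀ m ∈ A2, D.φ (m : M) ∈ fours ∧ (D.φ (m : M) = 1 → m = 1) := by
    intro m hm
    rcases (hm : (m : H) = 1 ∨ (m : H) = x ∨ (m : H) = y ∨ (m : H) = x * y) with e | e | e | e
    · exact ⟨by rw [e, map_one]; exact one_mem _, fun _ => Subtype.ext e⟩
    · rw [e]; exact ⟨hxf, fun h => absurd (hxa.symm.trans h) (by decide +kernel)⟩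
    · rw [e]; exact ⟨hyf, fun h => absurd (hyb.symm.trans h) (by decide +kernel)⟩
    · rw [e]; exact ⟨hxyf, fun h => absurd h (by rw [map_mul, hxa, hyb]; decide +kernel)⟩
  have hA2K : A2 ⊓ K2 = ⊥ := (eq_bot_iff_forall _).2 fun m hm =>
    (hA2 m hm.1).2 (D.φ_range (hZQ (mem_subgroupOf.1 hm.2)))
  have hKA2 : K2 ⊔ A2 = U2 := by
    refine le_antisymm (sup_le hK2U fun m hm => mem_comap.2 (hA2 m hm).1) fun m hm => ?_
    obtain ⟨c, hc, hcm⟩ : ∃ c ∈ A2, D.φ (c : M) = D.φ (m : M) := by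
      rcases mem_fours.1 (mem_comap.1 hm) with e | e | e | e <;>
        simp only [MonoidHom.comp_apply, Subgroup.coe_subtype] at e <;> rw [e]
      · exact ⟨1, one_mem _, map_one _⟩
      · exact ⟨⟨x, hx⟩, Or.inr (Or.inl rfl), hxa⟩
      · exact ⟨⟨y, hy⟩, Or.inr (Or.inr (Or.inl rfl)), hyb⟩
      · exact ⟨⟨x * y, mul_mem hx hy⟩, Or.inr (Or.inr (Or.inr rfl)), by rw [map_mul, hxa, hyb]⟩
    have hq : m * c⁻¹ ∈ K2 := mem_subgroupOf.2 (hMQ _ (m * c⁻¹).2 (D.ker _ (by
      rw [Subgroup.coe_mul, Subgroup.coe_inv, map_mul, map_inv, hcm, mul_inv_cancel])))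
    have := mul_mem ((le_sup_left : K2 ≤ K2 ⊔ A2) hq) ((le_sup_right : A2 ≤ K2 ⊔ A2) hc)
    rwa [inv_mul_cancel_right] at this
  obtain ⟨L', hL'⟩ := Solvable.gaschutz_exists hK2U hcop2 hA2K hKA2
  refine ⟨L'.map M.subtype, ?_, fun σ hσ => ?_⟩
  · rintro _ ⟨l, hl, rfl⟩ hlQ
    have : l ∈ K2 ⊓ L' := ⟨mem_subgroupOf.2 (hMQ _ l.2 hlQ), hl⟩
    rw [disjoint_iff.1 hL'.disjoint, Subgroup.mem_bot] at this
    rw [this]; rfl
  · obtain ⟨m, hm, rfl⟩ := hMsurj σ hσ
    obtain ⟨k, hk, l, hl, e⟩ := Subgroup.mem_sup_of_normal_left.1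
      (hL'.sup_eq_top ▸ mem_top (⟨m, hm⟩ : M) : (⟨m, hm⟩ : M) ∈ K2 ⊔ L')
    refine ⟨l, mem_map_of_mem _ hl, ?_⟩
    have e' : ((k : M) : H) * ((l : M) : H) = m := congrArg Subtype.val e
    rw [← e', map_mul, D.φ_range (hZQ (mem_subgroupOf.1 hk)), one_mul]

end Five

end Cfsg.Agent.J2Sylow
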