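import Cfsg.Agent.Lib.J2Sylow.Setup
import Cfsg.Agent.Lib.J2Sylow.Split

/-!
# The automiser of the extraspecial subgroup

* `Cfg.Qs`, `Cfg.N` : the extraspecial subgroup and its normaliser in the centraliser of `z`
* `Cfg.pairs` : the action of `N` on five pairs; `Cfg.range_pairs` : it induces the alternating group
-/

set_option autoImplicit false
set_option maxRecDepth 100000
set_option linter.style.haveILetI false

open Subgroup

namespace Cfsg.Agent.J2Sylow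

theorem eq_alt_of_card {Γ : Subgroup (Equiv.Perm (Fin 5))} (hle : Γ ≤ alternatingGroup (Fin 5))
    (h4 : fours ≤ Γ) {p q : Equiv.Perm (Fin 5)} (hp : p ∈ Γ) (hp3 : p ^ 3 = 1) (hp1 : p ≠ 1) (hq : q ∈ Γ)
    (hq5 : q ^ 5 = 1) (hq1 : q ≠ 1) : Γ = alternatingGroup (Fin 5) := by
  haveI : Fact (Nat.Prime 3) := ⟨Nat.prime_three⟩
  haveI : Fact (Nat.Prime 5) := ⟨by norm_num⟩
  refine Subgroup.eq_of_le_of_card_ge hle ?_
  have h3 := Subgroup.orderOf_dvd_natCard _ hp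
  rw [orderOf_eq_prime hp3 hp1] at h3
  have h5 := Subgroup.orderOf_dvd_natCard _ hq
  rw [orderOf_eq_prime hq5 hq1] at h5
  have h4' : 4 ∣ Nat.card Γ := card_fours ▸ card_dvd_of_le h4
  have hpos : 0 < Nat.card Γ := Nat.card_pos
  rw [nat_card_alternatingGroup, Nat.card_fin, show Nat.factorial 5 = 120 from rfl]
  omega

namespace Cfg

variable {G : Type*} [Group G] (K : Cfg G)

/-- The extraspecial subgroup. -/
def Qs : Subgroup G := K.frame.hom.range

theorem hom_eq (q : Q0) : K.frame.hom q = K.ι ⟨q, false, false⟩ := by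
  induction q using Q0.induction with
  | h1 => rw [map_one, show (⟨1, false, false⟩ : R0) = 1 from rfl, map_one]
  | hu i =>
    rw [Frame.hom_u]
    have : ∀ i, (⟨Q0.u i, false, false⟩ : R0) = R0.u i := by decide +kernel
    rw [this]
    rfl
  | hz => rw [Frame.hom_z]; rfl
  | hmul q r h1 h2 =>
    rw [map_mul, h1, h2, ← map_mul]
    rfl

theorem mem_Qs {r : R0} : K.ι r ∈ K.Qs ↔ R0.inQ r := by
  constructor
  · rintro ⟨q, hq⟩
    rw [hom_eq] at hq
    rw [← K.inj hq]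
    exact ⟨rfl, rfl⟩
  · rintro ⟨hs, ht⟩
    refine ⟨r.q, ?_⟩
    rw [hom_eq]
    obtain ⟨q, s, t⟩ := r
    simp only at hs ht
    subst hs ht
    rfl

theorem Qs_le : K.Qs ≤ (K.S : Subgroup G) := by
  rintro _ ⟨q, rfl⟩
  rw [hom_eq]
  exact K.ι_mem _

theorem exists_ι_Qs {x : G} (hx : x ∈ K.Qs) : ∃ r, R0.inQ r ∧ K.ι r = x := by
  obtain ⟨r, rfl⟩ := K.exists_ι (K.Qs_le hx)
  exact ⟨r, K.mem_Qs.1 hx, rfl⟩

theorem card_Qs : Nat.card K.Qs = 32 := K.frame.natCard_range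

/-- The normaliser of the extraspecial subgroup in the centraliser of the central involution. -/
def N : Subgroup G := centralizer ({K.z} : Set G) ⊓ normalizer (K.Qs : Set G)

theorem N_comm_z (n : K.N) : (n : G) * K.z = K.z * n := mem_centralizer_singleton_iff.1 n.2.1

theorem N_conj_z (n : K.N) : (n : G) * K.z * (n : G)⁻¹ = K.z := mul_inv_eq_iff_eq_mul.2 (K.N_comm_z n)

theorem S_le_N : (K.S : Subgroup G) ≤ K.N := by
  refine le_inf K.S_le_centralizer fun s hs => mem_normalizer_iff.2 fun x => ?_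
  obtain ⟨a, rfl⟩ := K.exists_ι hs
  have key : ∀ (a : R0) x, x ∈ K.Qs → K.ι a * x * (K.ι a)⁻¹ ∈ K.Qs := by
    intro a x hx
    obtain ⟨r, hr, rfl⟩ := K.exists_ι_Qs hx
    rw [← map_inv, ← map_mul, ← map_mul, K.mem_Qs]
    exact R0.conj_inQ a r hr
  refine ⟨key a x, fun h => ?_⟩
  have := key a⁻¹ _ h
  rw [map_inv, inv_inv] at this
  rwa [show (K.ι a)⁻¹ * (K.ι a * x * (K.ι a)⁻¹) * K.ι a = x by group] at this

theorem exists_pair (n : K.N) (i : Fin 5) :
    ∃ j, (n : G) * K.u i * (n : G)⁻¹ = K.u j ∨ (n : G) * K.u i * (n : G)⁻¹ = K.u j * K.z := by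
  obtain ⟨r, hr, e⟩ := K.exists_ι_Qs (((mem_normalizer_iff).1 n.2.2 _).1
    (show K.u i ∈ K.Qs from K.mem_Qs.2 (R0.u_basic.1 i).2.2.2))
  rcases R0.inQ_involution r hr (K.inj (by
    rw [map_mul, e, conj_mul, u, ← map_mul, (R0.u_basic.1 i).1, map_one, mul_one, mul_inv_cancel])) with
    h | h | ⟨j, h | h⟩
  · rw [h, map_one] at e
    exact absurd (K.inj ((conj_eq_one_iff.1 e.symm).trans (map_one K.ι).symm)) (R0.u_basic.1 i).2.1
  · rw [h] at e
    exact absurd (K.inj (mul_left_cancel (mul_right_cancel (e.symm.trans (K.N_conj_z n).symm))))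
      (R0.u_basic.1 i).2.2.1
  · exact ⟨j, Or.inl (by rw [← e, h]; rfl)⟩
  · exact ⟨j, Or.inr (by rw [← e, h, map_mul]; rfl)⟩

theorem pair_unique {i j : Fin 5} (h : K.u i = K.u j ∨ K.u i = K.u j * K.z) : i = j := by
  by_contra hne
  rcases h with e | e
  · exact (R0.u_basic.2.1 i j hne).2.1 (K.inj e)
  · rw [u, u, z, ← map_mul] at e
    exact (R0.u_basic.2.1 i j hne).2.2 (K.inj e)

theorem pair_trans {x : G} {i j : Fin 5} (hi : x = K.u i ∨ x = K.u i * K.z) (hj : x = K.u j ∨ x = K.u j * K.z) :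
    i = j := by
  refine K.pair_unique ?_
  have hz : K.z * K.z = 1 := K.frame.z_sq
  rcases hi with e | e <;> rcases hj with e' | e' <;> rw [e] at e'
  · exact Or.inl e'
  · exact Or.inr e'
  · exact Or.inr (by rw [← e', mul_assoc, hz, mul_one])
  · exact Or.inl (mul_right_cancel e')

/-- The permutation of the pairs. -/
noncomputable def pairFun (n : K.N) (i : Fin 5) : Fin 5 := (K.exists_pair n i).choose

theorem pairFun_spec (n : K.N) (i : Fin 5) : (n : G) * K.u i * (n : G)⁻¹ = K.u (K.pairFun n i) ∨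
    (n : G) * K.u i * (n : G)⁻¹ = K.u (K.pairFun n i) * K.z := (K.exists_pair n i).choose_spec

theorem pairFun_one (i : Fin 5) : K.pairFun 1 i = i := by
  refine (K.pair_trans ?_ (K.pairFun_spec 1 i)).symm
  left
  simp

theorem pairFun_mul (m n : K.N) (i : Fin 5) : K.pairFun (m * n) i = K.pairFun m (K.pairFun n i) := by
  refine K.pair_trans (K.pairFun_spec (m * n) i) ?_
  rw [Subgroup.coe_mul, show (m : G) * n * K.u i * ((m : G) * n)⁻¹ = m * ((n : G) * K.u i * (n : G)⁻¹) * (m : G)⁻¹ by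
    group]
  rcases K.pairFun_spec n i with e | e <;> rw [e]
  · exact K.pairFun_spec m _
  · rw [← conj_mul, K.N_conj_z]
    rcases K.pairFun_spec m (K.pairFun n i) with e' | e' <;> rw [e']
    · exact Or.inr rfl
    · left; rw [mul_assoc, show K.z * K.z = 1 from K.frame.z_sq, mul_one]

/-- The action on the pairs. -/
noncomputable def pairs : K.N →* Equiv.Perm (Fin 5) where
  toFun n := ⟨K.pairFun n, K.pairFun n⁻¹,
    fun i => by rw [← K.pairFun_mul, inv_mul_cancel, K.pairFun_one],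
    fun i => by rw [← K.pairFun_mul, mul_inv_cancel, K.pairFun_one]⟩
  map_one' := Equiv.ext K.pairFun_one
  map_mul' m n := Equiv.ext (K.pairFun_mul m n)

theorem pairs_spec (n : K.N) (i : Fin 5) : (n : G) * K.u i * (n : G)⁻¹ = K.u (K.pairs n i) ∨
    (n : G) * K.u i * (n : G)⁻¹ = K.u (K.pairs n i) * K.z := K.pairFun_spec n i

theorem pairs_ι (r : R0) : K.pairs ⟨K.ι r, K.S_le_N (K.ι_mem r)⟩ = R0.perm r := by
  refine Equiv.ext fun i => K.pair_trans (K.pairs_spec _ i) ?_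
  show K.ι r * K.u i * (K.ι r)⁻¹ = _ ∨ _
  rw [u, ← map_inv, ← map_mul, ← map_mul]
  rcases R0.conj_u r i with e | e <;> rw [e]
  · exact Or.inl rfl
  · exact Or.inr (map_mul _ _ _)

theorem mem_S_ker {n : K.N} (hS : (n : G) ∈ (K.S : Subgroup G)) (hn : K.pairs n = 1) : (n : G) ∈ K.Qs := by
  obtain ⟨r, hr⟩ := K.exists_ι hS
  rw [← hr, K.mem_Qs]
  rw [show n = ⟨K.ι r, K.S_le_N (K.ι_mem r)⟩ from Subtype.ext hr.symm, K.pairs_ι] at hn
  exact R0.perm_eq_one r.s r.t hn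

theorem pairs_Qs {n : K.N} (hn : (n : G) ∈ K.Qs) : K.pairs n = 1 := by
  obtain ⟨r, hr, e⟩ := K.exists_ι_Qs hn
  rw [show n = ⟨K.ι r, K.S_le_N (K.ι_mem r)⟩ from Subtype.ext e.symm, K.pairs_ι]
  obtain ⟨q, s, t⟩ := r
  obtain ⟨rfl, rfl⟩ := hr
  simp [R0.perm]

theorem fours_le_range : fours ≤ K.pairs.range := by
  intro x hx
  have ha : vA ∈ K.pairs.range := ⟨_, (K.pairs_ι R0.aa).trans R0.perm_aa.1⟩
  have hb : vB ∈ K.pairs.range := ⟨_, (K.pairs_ι R0.bb).trans R0.perm_aa.2⟩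
  rcases mem_fours.1 hx with rfl | rfl | rfl | rfl
  exacts [one_mem _, ha, hb, mul_mem ha hb]

section Fin

variable [Finite G]

/-- A 2-subgroup acting trivially on the pairs lies in the extraspecial subgroup up to conjugation. -/
theorem card_two_ker {P : Subgroup G} (hP : IsPGroup 2 P) (hPN : P ≤ K.N)
    (hker : ∀ n : K.N, (n : G) ∈ P → K.pairs n = 1) : Nat.card P ≤ 32 := by
  obtain ⟨c, hc, hcS⟩ := K.conj_into K.S_le_N hPN hP
  have hcm : Nat.card (P.map (MulAut.conj c).toMonoidHom) = Nat.card P :=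
    Subgroup.card_map_of_injective (MulAut.conj c).injective
  rw [← K.card_Qs, ← hcm]
  refine Nat.le_of_dvd Nat.card_pos (card_dvd_of_le ?_)
  rintro _ ⟨x, hx, rfl⟩
  have e : K.pairs (⟨c, hc⟩ * ⟨x, hPN hx⟩ * (⟨c, hc⟩ : K.N)⁻¹) = 1 := by
    rw [map_mul, map_mul, hker ⟨x, hPN hx⟩ hx, mul_one, map_inv, mul_inv_cancel]
  exact K.mem_S_ker (n := ⟨c, hc⟩ * ⟨x, hPN hx⟩ * (⟨c, hc⟩ : K.N)⁻¹) (hcS x hx) e

theorem not_eight_dvd : ¬ 8 ∣ Nat.card K.pairs.range := by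
  haveI : Fact (Nat.Prime 2) := ⟨Nat.prime_two⟩
  intro h
  have hker : 32 ∣ Nat.card K.pairs.ker := by
    rw [← K.card_Qs]
    have hle : K.Qs ≤ K.N := K.Qs_le.trans K.S_le_N
    rw [← Nat.card_congr (subgroupOfEquivOfLe hle).toEquiv]
    exact card_dvd_of_le fun n hn => K.pairs_Qs hn
  have h256 : 2 ^ 8 ∣ Nat.card G := by
    refine dvd_trans ?_ K.N.card_subgroup_dvd_card
    rw [← K.pairs.ker.index_mul_card, index_ker, show (2 : ℕ) ^ 8 = 8 * 32 by norm_num]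
    exact mul_dvd_mul h hker
  obtain ⟨P, hP, -⟩ := Sylow.exists_subgroup_card_pow_prime_le 2 h256 (H := (⊥ : Subgroup G))
    (show Nat.card (⊥ : Subgroup G) = 2 ^ 0 by simp) (Nat.zero_le _)
  obtain ⟨Q, hQ⟩ := (IsPGroup.of_card hP).exists_le_sylow
  have := Nat.le_of_dvd Nat.card_pos (card_dvd_of_le hQ)
  rw [hP, Nat.card_congr (Q.equiv K.S).toEquiv, K.card_S] at this
  omega

/-- The automiser induces the alternating group on the pairs. -/
theorem range_pairs (hno : TwoTimesPSL.NoIndexTwo G) : K.pairs.range = alternatingGroup (Fin 5) := by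
  haveI : Fact (Nat.Prime 2) := ⟨Nat.prime_two⟩
  classical
  -- the image is even
  have heven : K.pairs.range ≤ alternatingGroup (Fin 5) := by
    intro σ hσ
    by_contra hodd
    rw [Equiv.Perm.mem_alternatingGroup] at hodd
    refine K.not_eight_dvd ?_
    let f : K.pairs.range →* ℤˣ := Equiv.Perm.sign.comp K.pairs.range.subtype
    have hf : f.range = ⊤ := eq_top_iff.2 fun v _ => by
      rcases Int.units_eq_one_or v with rfl | rfl
      · exact one_mem _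
      · exact ⟨⟨σ, hσ⟩, (Int.units_eq_one_or _).resolve_left hodd⟩
    rw [← f.ker.index_mul_card, index_ker, hf, card_top, Nat.card_eq_fintype_card, Fintype.card_units_int]
    rw [show (8 : ℕ) = 2 * 4 by norm_num]
    refine mul_dvd_mul (dvd_refl 2) ?_
    rw [← card_fours, ← Nat.card_congr (subgroupOfEquivOfLe K.fours_le_range).toEquiv]
    exact card_dvd_of_le fun x hx => Equiv.Perm.mem_alternatingGroup.1 (fours_le hx)
  obtain ⟨h, hhz, hhD⟩ := K.exists_fuse hno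
  -- the conjugate of the centraliser
  have hDimg : K.D.map (MulAut.conj h).toMonoidHom = K.Qs ⊓ K.B := by
    refine Subgroup.eq_of_le_of_card_ge ?_ ?_
    · rintro _ ⟨x, hx, rfl⟩
      obtain ⟨r, hq, hb, e⟩ := hhD x hx
      show h * x * h⁻¹ ∈ _
      rw [← e]
      exact ⟨K.mem_Qs.2 hq, K.mem_B.2 hb⟩
    · rw [Subgroup.card_map_of_injective (MulAut.conj h).injective, K.card_D,
        K.card_of_mem (inf_le_left.trans K.Qs_le) (fun r => R0.inB r ∧ R0.inQ r)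
          fun r => by rw [mem_inf, K.mem_Qs, K.mem_B, and_comm], R0.card_cent_u_zero.2.1]
  set Y : Subgroup G := centralizer ({K.z} : Set G) ⊓ normalizer (K.D : Set G) with hY
  have hQY : K.Qs ≤ Y := by
    refine le_inf (K.Qs_le.trans K.S_le_centralizer) fun q hq => mem_normalizer_iff.2 fun x => ?_
    obtain ⟨a, ha, rfl⟩ := K.exists_ι_Qs hq
    have key : ∀ a, R0.inQ a → ∀ x, x ∈ K.D → K.ι a * x * (K.ι a)⁻¹ ∈ K.D := by
      intro a ha x hx
      obtain ⟨r, rfl⟩ := K.exists_ι hx.1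
      rw [← map_inv, ← map_mul, ← map_mul, K.mem_D]
      have hc : a * R0.u 0 * a⁻¹ = R0.u 0 ∨ a * R0.u 0 * a⁻¹ = R0.u 0 * R0.z := by
        obtain ⟨q, s, t⟩ := a
        obtain ⟨rfl, rfl⟩ := ha
        simpa [R0.perm] using R0.conj_u ⟨q, false, false⟩ 0
      have hr := K.mem_D.1 hx
      have e : a * r * a⁻¹ * (a * R0.u 0 * a⁻¹) = a * R0.u 0 * a⁻¹ * (a * r * a⁻¹) := by
        rw [conj_mul, conj_mul, hr]
      rcases hc with h' | h' <;> rw [h'] at e
      · exact e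
      · rw [← mul_assoc, mul_assoc (R0.u 0), ← R0.z_comm, ← mul_assoc] at e
        exact mul_right_cancel e
    refine ⟨key a ha x, fun h' => ?_⟩
    have := key a⁻¹ (show R0.inQ a⁻¹ from ⟨ha.1, ha.2⟩) _ h'
    rw [map_inv, inv_inv] at this
    rwa [show (K.ι a)⁻¹ * (K.ι a * x * (K.ι a)⁻¹) * K.ι a = x by group] at this
  have hSY : (K.S : Subgroup G).map (MulAut.conj h⁻¹).toMonoidHom ≤ Y := by
    rintro _ ⟨s, hs, rfl⟩
    show h⁻¹ * s * h⁻¹⁻¹ ∈ Y
    rw [inv_inv]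
    refine ⟨mem_centralizer_singleton_iff.2 ?_, mem_normalizer_iff.2 fun x => ?_⟩
    · have e : h * K.z = K.z * h := mul_inv_eq_iff_eq_mul.1 hhz
      have e' : h⁻¹ * K.z = K.z * h⁻¹ := (Commute.inv_left (show Commute h K.z from e)).eq
      calc h⁻¹ * s * h * K.z = h⁻¹ * (s * K.z) * h := by rw [mul_assoc _ h, e]; group
        _ = h⁻¹ * K.z * (s * h) := by rw [K.z_comm hs]; group
        _ = K.z * (h⁻¹ * s * h) := by rw [e']; group
    · obtain ⟨a, rfl⟩ := K.exists_ι hs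
      have key : ∀ a x, x ∈ K.Qs ⊓ K.B → K.ι a * x * (K.ι a)⁻¹ ∈ K.Qs ⊓ K.B := by
        intro a x hx
        obtain ⟨r, hr, rfl⟩ := K.exists_ι_Qs hx.1
        rw [← map_inv, ← map_mul, ← map_mul]
        exact ⟨K.mem_Qs.2 (R0.conj_inQ a r hr), K.mem_B.2 (R0.conj_inB a r (K.mem_B.1 hx.2))⟩
      have hiff : ∀ x, x ∈ K.D ↔ h * x * h⁻¹ ∈ K.Qs ⊓ K.B := fun x => by
        rw [← hDimg]
        exact ⟨fun hx => ⟨x, hx, rfl⟩, fun ⟨y, hy, e⟩ =>
          ((MulAut.conj h).injective (show MulAut.conj h y = MulAut.conj h x from e)) ▸ hy⟩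
      rw [hiff, hiff, show h * (h⁻¹ * K.ι a * h * x * (h⁻¹ * K.ι a * h)⁻¹) * h⁻¹ =
        K.ι a * (h * x * h⁻¹) * (K.ι a)⁻¹ by group]
      refine ⟨key a _, fun h' => ?_⟩
      have := key a⁻¹ _ h'
      rw [map_inv, inv_inv] at this
      rwa [show (K.ι a)⁻¹ * (K.ι a * (h * x * h⁻¹) * (K.ι a)⁻¹) * K.ι a = h * x * h⁻¹ by group] at this
  obtain ⟨P, hP⟩ := ((K.S.2.to_le K.Qs_le).comap_of_injective Y.subtype Y.subtype_injective).exists_le_sylow
  have hPcard : 128 ≤ Nat.card P := by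
    obtain ⟨R, hR⟩ :=
      ((K.S.2.map (MulAut.conj h⁻¹).toMonoidHom).comap_of_injective Y.subtype Y.subtype_injective).exists_le_sylow
    have h1 := Nat.le_of_dvd Nat.card_pos (card_dvd_of_le hR)
    rw [Nat.card_congr (R.equiv P).toEquiv] at h1
    rwa [← subgroupOf, Nat.card_congr (subgroupOfEquivOfLe hSY).toEquiv,
      Subgroup.card_map_of_injective (MulAut.conj h⁻¹).injective, K.card_S] at h1
  have hlt : K.Qs.subgroupOf Y < (P : Subgroup Y) := by
    refine lt_of_le_of_ne hP fun e => ?_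
    rw [← e, Nat.card_congr (subgroupOfEquivOfLe hQY).toEquiv, K.card_Qs] at hPcard
    omega
  haveI : Group.IsNilpotent (P : Subgroup Y) := P.2.isNilpotent
  set P' : Subgroup G := (P : Subgroup Y).map Y.subtype with hP'
  obtain ⟨t, htn, htQ⟩ : ∃ t ∈ P', (∀ x, x ∈ K.Qs ↔ t * x * t⁻¹ ∈ K.Qs) ∧ t ∉ K.Qs := by
    have hlt' : (K.Qs.subgroupOf Y).subgroupOf (P : Subgroup Y) < ⊤ :=
      lt_top_iff_ne_top.2 fun e => hlt.not_ge (subgroupOf_eq_top.1 e)
    obtain ⟨t, ht, htn⟩ := SetLike.exists_of_lt (Group.normalizerCondition_of_isNilpotent _ hlt')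
    refine ⟨(t : Y), mem_map_of_mem _ t.2, fun x => ?_, fun hq => htn (mem_subgroupOf.2 (mem_subgroupOf.2 hq))⟩
    have h1 := mem_normalizer_iff.1 ht
    constructor
    · intro hx
      exact mem_subgroupOf.1 (mem_subgroupOf.1 ((h1 ⟨⟨x, hQY hx⟩, hP hx⟩).1 (mem_subgroupOf.2 (mem_subgroupOf.2 hx))))
    · intro hx
      have hxY : x ∈ Y := by
        have := mul_mem (mul_mem (inv_mem (t : Y).2) (hQY hx)) (t : Y).2
        rwa [show ((t : Y) : G)⁻¹ * (((t : Y) : G) * x * ((t : Y) : G)⁻¹) * ((t : Y) : G) = x by group] at this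
      have hxP : (⟨x, hxY⟩ : Y) ∈ (P : Subgroup Y) := by
        have hm : (t : Y) * ⟨x, hxY⟩ * (t : Y)⁻¹ ∈ (P : Subgroup Y) := hP hx
        have := mul_mem (mul_mem (inv_mem t.2) hm) t.2
        rwa [show (t : Y)⁻¹ * ((t : Y) * ⟨x, hxY⟩ * (t : Y)⁻¹) * (t : Y) = ⟨x, hxY⟩ by group] at this
      exact mem_subgroupOf.1 (mem_subgroupOf.1 ((h1 ⟨⟨x, hxY⟩, hxP⟩).2 (mem_subgroupOf.2 (mem_subgroupOf.2 hx))))
  have hP2 : IsPGroup 2 P' := P.2.map _
  have htY : t ∈ Y := map_subtype_le _ htn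
  have htN : t ∈ K.N := ⟨htY.1, mem_normalizer_iff.2 htQ.1⟩
  set σ := K.pairs ⟨t, htN⟩ with hσdef
  have hσ0 : σ 0 = 0 := by
    have hu0D : K.u 0 ∈ K.D := K.mem_D.2 rfl
    have hm := ((mem_normalizer_iff).1 htY.2 _).1 hu0D
    obtain ⟨r, hr⟩ := K.exists_ι hm.1
    have hcomm : ∀ y, y * R0.u 0 = R0.u 0 * y → r * y = y * r := by
      intro y hy
      obtain ⟨y', hy', e⟩ : ∃ y' ∈ K.D, t * y' * t⁻¹ = K.ι y :=
        ⟨t⁻¹ * K.ι y * t, ((mem_normalizer_iff).1 htY.2 _).2 (by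
          rw [show t * (t⁻¹ * K.ι y * t) * t⁻¹ = K.ι y by group]; exact K.mem_D.2 hy), by group⟩
      refine K.ι_comm.1 ?_
      rw [hr, ← e, conj_mul, conj_mul, mem_centralizer_singleton_iff.1 hy'.2]
    obtain ⟨-, hc1, hc2, -, -⟩ := R0.cent_u_zero
    have hr0 : r * R0.u 0 = R0.u 0 * r := K.mem_D.1 (hr ▸ hm)
    have hcases := R0.center_cent_u_zero r (K.inj (by
      rw [map_mul, hr, conj_mul, u, ← map_mul, (R0.u_basic.1 0).1, map_one, mul_one, mul_inv_cancel]))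
      hr0 (hcomm _ hc1) (hcomm _ hc2)
    have hspec := K.pairs_spec ⟨t, htN⟩ 0
    change t * K.u 0 * t⁻¹ = K.u (σ 0) ∨ t * K.u 0 * t⁻¹ = K.u (σ 0) * K.z at hspec
    rcases hcases with e | e | e | e <;> rw [e] at hr
    · rw [map_one] at hr
      exact absurd (K.inj ((conj_eq_one_iff.1 hr.symm).trans (map_one K.ι).symm)) (R0.u_basic.1 0).2.1
    · exfalso
      have hc : t * K.z * t⁻¹ = K.z := K.N_conj_z ⟨t, htN⟩
      exact (R0.u_basic.1 0).2.2.1 (K.inj (mul_left_cancel (mul_right_cancel (hr.symm.trans hc.symm))))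
    · exact (K.pair_trans (Or.inl hr.symm) hspec).symm
    · rw [map_mul] at hr
      exact (K.pair_trans (Or.inr hr.symm) hspec).symm
  have hσ1 : σ ≠ 1 := by
    intro h1
    have hle : K.Qs ⊔ zpowers t ≤ P' ⊓ K.N := sup_le
      (le_inf (fun q hq => mem_map.2 ⟨⟨q, hQY hq⟩, hP hq, rfl⟩) (K.Qs_le.trans K.S_le_N))
      (zpowers_le.2 ⟨htn, htN⟩)
    have hker : ∀ n : K.N, (n : G) ∈ K.Qs ⊔ zpowers t → K.pairs n = 1 := by
      have hsub : K.Qs ⊔ zpowers t ≤ K.pairs.ker.map K.N.subtype := sup_le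
        (fun q hq => ⟨⟨q, K.S_le_N (K.Qs_le hq)⟩, K.pairs_Qs hq, rfl⟩)
        (zpowers_le.2 ⟨⟨t, htN⟩, h1, rfl⟩)
      intro n hn
      obtain ⟨m, hm, e⟩ := hsub hn
      exact (Subtype.ext e : m = n) ▸ hm
    have hcard := K.card_two_ker (hP2.to_le (hle.trans inf_le_left)) (hle.trans inf_le_right) hker
    have heq : K.Qs = K.Qs ⊔ zpowers t :=
      Subgroup.eq_of_le_of_card_ge le_sup_left (hcard.trans K.card_Qs.ge)
    exact htQ.2 (heq.ge (le_sup_right (a := K.Qs) (mem_zpowers t)))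
  have hσsign : Equiv.Perm.sign σ = 1 := Equiv.Perm.mem_alternatingGroup.1 (heven ⟨_, rfl⟩)
  have hσ4 : σ ^ 4 = 1 := by
    obtain ⟨j, hj⟩ := hP2 ⟨t, htn⟩
    have hj' : (⟨t, htN⟩ : K.N) ^ 2 ^ j = 1 := Subtype.ext (by
      rw [SubgroupClass.coe_pow, Subgroup.coe_one]
      simpa using congrArg Subtype.val hj)
    have h2 : σ ^ 2 ^ j = 1 := by rw [hσdef, ← map_pow, hj', map_one]
    obtain ⟨i, -, hi⟩ := (Nat.dvd_prime_pow Nat.prime_two).1 (orderOf_dvd_of_pow_eq_one h2)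
    have h8 : ¬ 8 ∣ orderOf σ := fun h' => K.not_eight_dvd
      (h'.trans (Subgroup.orderOf_dvd_natCard _ ⟨_, rfl⟩))
    refine orderOf_dvd_iff_pow_eq_one.1 ?_
    rw [hi] at h8 ⊢
    have : i ≤ 2 := by
      by_contra hlt
      exact h8 (pow_dvd_pow 2 (show 3 ≤ i by omega))
    exact pow_dvd_pow 2 this
  have hσm : σ ∈ K.pairs.range := ⟨_, rfl⟩
  have hA : vA ∈ K.pairs.range := K.fours_le_range (mem_fours.2 (Or.inr (Or.inl rfl)))
  have hB : vB ∈ K.pairs.range := K.fours_le_range (mem_fours.2 (Or.inr (Or.inr (Or.inl rfl))))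
  rcases R0.perm_sigma σ hσ0 hσ1 hσsign hσ4 with ⟨a3, a1, b5, b1⟩ | ⟨a5, a1, b3, b1⟩ | ⟨a5, a1, c3, c1⟩
  · exact eq_alt_of_card heven K.fours_le_range (mul_mem hA hσm) a3 a1 (mul_mem hB hσm) b5 b1
  · exact eq_alt_of_card heven K.fours_le_range (mul_mem hB hσm) b3 b1 (mul_mem hA hσm) a5 a1
  · exact eq_alt_of_card heven K.fours_le_range (mul_mem (mul_mem hA hB) hσm) c3 c1 (mul_mem hA hσm) a5 a1

end Fin

end Cfg

end Cfsg.Agent.J2Sylow
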