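import Cfsg.Agent.Lib.J2Sylow.Iso
import Cfsg.Agent.Lib.Icosian.Fusion

/-!
# The Hall-Janko group satisfies the hypotheses

* `Five.map` : transport
* `nonempty_sylow` : the coordinates of a Sylow 2-subgroup of the Hall-Janko group
* `exists_centralizer` : the centraliser of a 2-central involution
-/

set_option autoImplicit false
set_option maxRecDepth 100000
set_option linter.style.haveILetI false

open Subgroup

namespace Cfsg.Agent.J2Sylow

/-- Transport of a frame. -/
def Frame.map {H K : Type*} [Group H] [Group K] (F : Frame H) (e : H ≃* K) : Frame K where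
  z := e F.z
  u i := e (F.u i)
  u_sq i := by rw [← map_mul, F.u_sq, map_one]
  z_sq := by rw [← map_mul, F.z_sq, map_one]
  z_ne h := F.z_ne (e.injective (h.trans (map_one e).symm))
  z_u i := by rw [← map_mul, F.z_u, map_mul]
  anti i j h := by rw [← map_mul, F.anti i j h, map_mul, map_mul]
  prod := by rw [← map_mul, ← map_mul, ← map_mul, ← map_mul, F.prod, map_one]

theorem Frame.map_hom {H K : Type*} [Group H] [Group K] (F : Frame H) (e : H ≃* K) (q : Q0) :
    (F.map e).hom q = e (F.hom q) := by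
  induction q using Q0.induction with
  | h1 => simp only [map_one]
  | hu i => rw [Frame.hom_u, Frame.hom_u]; rfl
  | hz => rw [Frame.hom_z, Frame.hom_z]; rfl
  | hmul q r h1 h2 => simp only [map_mul, h1, h2]

/-- Transport of the hypotheses. -/
def Five.map {H K : Type*} [Group H] [Group K] (D : Five H) (e : H ≃* K) : Five K where
  F := D.F.map e
  φ := D.φ.comp e.symm.toMonoidHom
  act h i := by
    obtain ⟨h, rfl⟩ := e.surjective h
    simp only [Frame.map, MonoidHom.comp_apply, MulEquiv.coe_toMonoidHom, MulEquiv.symm_apply_apply]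
    rw [← map_inv, ← map_mul, ← map_mul, ← map_mul, e.injective.eq_iff, e.injective.eq_iff]
    exact D.act h i
  ker h hh := by
    obtain ⟨h, rfl⟩ := e.surjective h
    obtain ⟨q, hq⟩ := D.ker h (by simpa using hh)
    exact ⟨q, by rw [Frame.map_hom, hq]⟩
  range := by
    rw [← D.range]
    ext σ
    exact ⟨fun ⟨x, hx⟩ => ⟨e.symm x, hx⟩, fun ⟨x, hx⟩ => ⟨e x, by simp [hx]⟩⟩
  lift_sq h h4 h1 hz := by
    obtain ⟨h, rfl⟩ := e.surjective h
    simp only [MonoidHom.comp_apply, MulEquiv.coe_toMonoidHom, MulEquiv.symm_apply_apply] at h4 h1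
    refine D.lift_sq h h4 h1 (e.injective ?_)
    rw [map_mul]
    exact hz
  a := e D.a
  b := e D.b
  a_sq := by rw [← map_mul, D.a_sq, map_one]
  b_sq := by rw [← map_mul, D.b_sq, map_one]
  ab := by rw [← map_mul, D.ab, map_mul]
  φa := by simp [D.φa]
  φb := by simp [D.φb]

namespace Jan

open Cfsg.Agent.Ico Cfsg.Agent.StabCert

/-- The five core indices. -/
def uIdx : Fin 5 → Fin 32 := ![1, 25, 2, 13, 23]

/-- The word of the first outer involution. -/
def aWord : List ℕ := sWordA ++ cw 7

/-- The word of the second outer involution. -/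
def bWord : List ℕ := sWordB ++ cw 8

/-- All relations. -/
def relOK : Bool :=
  ((List.finRange 5).all fun i => sameW (cw (uIdx i) ++ cw (uIdx i)) [] &&
    sameW (cw 6 ++ cw (uIdx i)) (cw (uIdx i) ++ cw 6) &&
    sameW (aWord ++ cw (uIdx i) ++ aWord) (cw (uIdx (vA i))) &&
    sameW (bWord ++ cw (uIdx i) ++ bWord) (cw (uIdx (vB i))) &&
    ((List.finRange 5).all fun j => i == j ||
      sameW (cw (uIdx i) ++ cw (uIdx j)) (cw (uIdx j) ++ cw (uIdx i) ++ cw 6))) &&
  sameW (cw (uIdx 0) ++ cw (uIdx 1) ++ cw (uIdx 2) ++ cw (uIdx 3) ++ cw (uIdx 4)) [] &&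
  sameW (aWord ++ aWord) [] && sameW (bWord ++ bWord) [] && sameW (aWord ++ bWord) (bWord ++ aWord) &&
  sameW (cw 6 ++ cw 6) []

/-- The action of the letters. -/
def actOK : Bool :=
  level1.gens.all fun k => (List.finRange 5).all fun i =>
    sameW ([k] ++ cw (uIdx i)) (cw (uIdx ((pairImg [k]).getD i.val 0)) ++ [k]) ||
      sameW ([k] ++ cw (uIdx i)) (cw (uIdx ((pairImg [k]).getD i.val 0)) ++ cw 6 ++ [k])

theorem rel_ok : relOK = true := by decide +kernel

theorem act_ok : actOK = true := by decide +kernel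

theorem word_ok : (∀ k ∈ aWord, k ∈ level1.gens) ∧ (∀ k ∈ bWord, k ∈ level1.gens) := by decide +kernel

theorem img_ok : pairImg aWord = [2, 3, 0, 1, 4] ∧ pairImg bWord = [1, 0, 3, 2, 4] := by decide +kernel

theorem same {u v : List ℕ} (hu : ∀ k ∈ u, k ∈ level1.gens) (hv : ∀ k ∈ v, k ∈ level1.gens)
    (h : sameW u v = true) : wordEl el u = wordEl el v := sameW_spec hu hv h

theorem app {u v : List ℕ} (hu : ∀ k ∈ u, k ∈ level1.gens) (hv : ∀ k ∈ v, k ∈ level1.gens) :
    ∀ k ∈ u ++ v, k ∈ level1.gens := fun k hk => (List.mem_append.1 hk).elim (hu k) (hv k)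

theorem nil : ∀ k ∈ ([] : List ℕ), k ∈ level1.gens := fun k hk => absurd hk List.not_mem_nil

theorem coe_core (i : Fin 32) : ((coreEl i : lineStab) : Equiv.Perm (Fin 315)) = wordEl el (cw i) := rfl

theorem rel (i j : Fin 5) :
    (coreEl (uIdx i) * coreEl (uIdx i) = 1 ∧ coreEl 6 * coreEl (uIdx i) = coreEl (uIdx i) * coreEl 6) ∧
    (i ≠ j → coreEl (uIdx i) * coreEl (uIdx j) = coreEl (uIdx j) * coreEl (uIdx i) * coreEl 6) := by
  have h := rel_ok
  simp only [relOK, Bool.and_eq_true, List.all_eq_true, List.mem_finRange, true_implies, Bool.or_eq_true,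
    beq_iff_eq] at h
  obtain ⟨⟨⟨⟨⟨h1, -⟩, -⟩, -⟩, -⟩, -⟩ := h
  obtain ⟨⟨⟨⟨h2, h3⟩, -⟩, -⟩, h4⟩ := h1 i
  refine ⟨⟨Subtype.ext ?_, Subtype.ext ?_⟩, fun hij => Subtype.ext ?_⟩
  · have e := same (app (cw_letters _) (cw_letters _)) nil h2
    rwa [wordEl_append] at e
  · have e := same (app (cw_letters _) (cw_letters _)) (app (cw_letters _) (cw_letters _)) h3
    rwa [wordEl_append, wordEl_append] at e
  · have e := same (app (cw_letters _) (cw_letters _)) (app (app (cw_letters _) (cw_letters _)) (cw_letters _))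
      ((h4 j).resolve_left hij)
    rwa [wordEl_append, wordEl_append, wordEl_append] at e

/-- The frame. -/
noncomputable def frame : Frame lineStab where
  z := coreEl 6
  u i := coreEl (uIdx i)
  u_sq i := (rel i i).1.1
  z_sq := Subtype.ext (by
    have h := rel_ok
    simp only [relOK, Bool.and_eq_true] at h
    have e := same (app (cw_letters _) (cw_letters _)) nil h.2
    rwa [wordEl_append] at e)
  z_ne h := absurd (coreEl_injective (h.trans (Subtype.ext (show wordEl el (cw 0) = 1 by
    rw [core_ok.2.2.2.1]; rfl) : coreEl 0 = 1).symm)) (by decide)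
  z_u i := (rel i i).1.2
  anti i j := (rel i j).2
  prod := Subtype.ext (by
    have h := rel_ok
    simp only [relOK, Bool.and_eq_true] at h
    have e := same (app (app (app (app (cw_letters _) (cw_letters _)) (cw_letters _)) (cw_letters _)) (cw_letters _))
      nil h.1.1.1.1.2
    rwa [wordEl_append, wordEl_append, wordEl_append, wordEl_append] at e)

/-- The first outer involution. -/
noncomputable def aEl : lineStab := stabEl aWord word_ok.1

/-- The second outer involution. -/
noncomputable def bEl : lineStab := stabEl bWord word_ok.2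

theorem outer_rel : aEl * aEl = 1 ∧ bEl * bEl = 1 ∧ aEl * bEl = bEl * aEl ∧
    (∀ i, aEl * frame.u i * aEl = frame.u (vA i)) ∧ ∀ i, bEl * frame.u i * bEl = frame.u (vB i) := by
  have h := rel_ok
  simp only [relOK, Bool.and_eq_true, List.all_eq_true, List.mem_finRange, true_implies] at h
  obtain ⟨⟨⟨⟨⟨h1, -⟩, ha⟩, hb⟩, hab⟩, -⟩ := h
  refine ⟨Subtype.ext ?_, Subtype.ext ?_, Subtype.ext ?_, fun i => Subtype.ext ?_, fun i => Subtype.ext ?_⟩
  · have e := same (app word_ok.1 word_ok.1) nil ha
    rwa [wordEl_append] at e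
  · have e := same (app word_ok.2 word_ok.2) nil hb
    rwa [wordEl_append] at e
  · have e := same (app word_ok.1 word_ok.2) (app word_ok.2 word_ok.1) hab
    rwa [wordEl_append, wordEl_append] at e
  · have e := same (app (app word_ok.1 (cw_letters _)) word_ok.1) (cw_letters _) (h1 i).1.1.2
    rwa [wordEl_append, wordEl_append] at e
  · have e := same (app (app word_ok.2 (cw_letters _)) word_ok.2) (cw_letters _) (h1 i).1.2
    rwa [wordEl_append, wordEl_append] at e

theorem conj_frame_z (g : lineStab) : g * frame.z * g⁻¹ = frame.z := by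
  refine stabIncl_injective ?_
  show stabIncl (g * coreEl 6 * g⁻¹) = stabIncl (coreEl 6)
  rw [map_mul, map_mul, map_inv, stabIncl_coreEl_six, mul_inv_eq_iff_eq_mul]
  exact stab_commute g

theorem act_frame (g : lineStab) (i : Fin 5) :
    g * frame.u i * g⁻¹ = frame.u (pairHom g i) ∨ g * frame.u i * g⁻¹ = frame.u (pairHom g i) * frame.z := by
  obtain ⟨g, hg⟩ := g
  revert i hg
  suffices H : ∀ g, g ∈ Submonoid.closure {x | ∃ k ∈ level1.gens, el k = x} → ∀ (hg : g ∈ lineStab) (i : Fin 5),
      (⟨g, hg⟩ : lineStab) * frame.u i * (⟨g, hg⟩ : lineStab)⁻¹ = frame.u (pairHom ⟨g, hg⟩ i) ∨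
      (⟨g, hg⟩ : lineStab) * frame.u i * (⟨g, hg⟩ : lineStab)⁻¹ = frame.u (pairHom ⟨g, hg⟩ i) * frame.z by
    intro i hg
    refine H g ?_ hg i
    have hg' := hg
    rw [lineStab, sub, ← Subgroup.mem_toSubmonoid, Subgroup.closure_toSubmonoid_of_finite] at hg'
    exact hg'
  intro g hg'
  induction hg' using Submonoid.closure_induction with
  | mem x hx =>
    obtain ⟨k, hk, rfl⟩ := hx
    intro hg i
    have hk1 : ∀ a ∈ [k], a ∈ level1.gens := fun a ha => by rw [List.mem_singleton] at ha; exact ha ▸ hk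
    have hel : (⟨el k, hg⟩ : lineStab) = stabEl [k] hk1 := Subtype.ext (by simp [stabEl, wordEl])
    have himg : (pairImg [k]).getD i.val 0 = pairHom (stabEl [k] hk1) i := by
      rw [← pairHom_stabEl [k] hk1, List.getD_eq_getElem _ _ (by simp)]
      simp
    rw [hel, ← himg]
    have h := act_ok
    simp only [actOK, List.all_eq_true, List.mem_finRange, true_implies, Bool.or_eq_true] at h
    rcases h k hk i with e | e
    · left
      rw [mul_inv_eq_iff_eq_mul]
      refine Subtype.ext ?_
      have e' := same (app hk1 (cw_letters _)) (app (cw_letters _) hk1) e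
      rwa [wordEl_append, wordEl_append] at e'
    · right
      rw [mul_inv_eq_iff_eq_mul]
      refine Subtype.ext ?_
      have e' := same (app hk1 (cw_letters _)) (app (app (cw_letters _) (cw_letters _)) hk1) e
      rwa [wordEl_append, wordEl_append, wordEl_append] at e'
  | one =>
    intro hg i
    left
    rw [show (⟨1, hg⟩ : lineStab) = 1 from rfl, map_one]
    simp
  | mul x y hx hy ihx ihy =>
    intro hg i
    have hmem : ∀ {w}, w ∈ Submonoid.closure {x | ∃ k ∈ level1.gens, el k = x} → w ∈ lineStab := fun {w} hw => by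
      rw [lineStab, sub, ← Subgroup.mem_toSubmonoid, Subgroup.closure_toSubmonoid_of_finite]
      exact hw
    rw [show (⟨x * y, hg⟩ : lineStab) = ⟨x, hmem hx⟩ * ⟨y, hmem hy⟩ from rfl, map_mul, Equiv.Perm.mul_apply]
    set a : lineStab := ⟨x, hmem hx⟩
    set b : lineStab := ⟨y, hmem hy⟩
    rw [show a * b * frame.u i * (a * b)⁻¹ = a * (b * frame.u i * b⁻¹) * a⁻¹ by group]
    rcases ihy (hmem hy) i with e | e <;> rw [e]
    · exact ihx (hmem hx) _
    · rw [← conj_mul, conj_frame_z]
      rcases ihx (hmem hx) (pairHom b i) with e' | e' <;> rw [e']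
      · exact Or.inr rfl
      · left
        rw [mul_assoc, frame.z_sq, mul_one]

theorem fours_eq : fours = fourGroup := by
  ext x
  rw [mem_fours]
  rfl

theorem pairHom_outer : pairHom aEl = J2Sylow.vA ∧ pairHom bEl = J2Sylow.vB :=
  ⟨(perm_of_list _).1 ((pairHom_stabEl _ _).trans img_ok.1), (perm_of_list _).2 ((pairHom_stabEl _ _).trans img_ok.2)⟩

theorem range_frame : frame.hom.range = pairHom.ker := by
  refine Subgroup.eq_of_le_of_card_ge ?_ (by rw [frame.natCard_range, natCard_ker_pairHom])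
  rintro _ ⟨q, rfl⟩
  induction q using Q0.induction with
  | h1 => rw [map_one]; exact one_mem _
  | hu i => rw [frame.hom_u]; exact coreEl_mem _
  | hz => rw [frame.hom_z]; exact coreEl_mem _
  | hmul q r h1 h2 => rw [map_mul]; exact mul_mem h1 h2

/-- The coordinates of the preimage of the four-group. -/
theorem exists_coord : ∃ f : R0 →* lineStab, Function.Injective f ∧ f.range = fours.comap pairHom ∧
    f R0.z = frame.z ∧ ∀ r : R0, R0.inQ r → pairHom (f r) = 1 := by
  obtain ⟨ha, hb, hab, hau, hbu⟩ := outer_rel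
  obtain ⟨f, hfu, hfz, hfa, hfb, hfq⟩ := frame.exists_homR ha hb hab hau hbu
  have hQ : ∀ q, pairHom (f ⟨q, false, false⟩) = 1 := fun q => by
    rw [hfq, ← MonoidHom.mem_ker, ← range_frame]; exact ⟨q, rfl⟩
  have dec : ∀ r : R0, r = (⟨r.q, false, false⟩ : R0) * (bif r.s then R0.aa else 1) *
      (bif r.t then R0.bb else 1) := by decide +kernel
  have hφ : ∀ r : R0, pairHom (f r) = (bif r.s then J2Sylow.vA else 1) * (bif r.t then J2Sylow.vB else 1) := by
    intro r
    conv_lhs => rw [dec r]
    rw [map_mul, map_mul, map_mul, map_mul, hQ, one_mul]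
    congr 1
    · cases r.s
      · simp
      · simp [hfa, pairHom_outer.1]
    · cases r.t
      · simp
      · simp [hfb, pairHom_outer.2]
  have hinj : Function.Injective f := by
    refine (injective_iff_map_eq_one f).2 fun r hr => ?_
    have h1 := hφ r
    rw [hr, map_one] at h1
    obtain ⟨q, s, t⟩ := r
    have hst : ∀ s t : Bool, (1 : Equiv.Perm (Fin 5)) =
        (bif s then J2Sylow.vA else 1) * (bif t then J2Sylow.vB else 1) → s = false ∧ t = false := by
      decide +kernel
    obtain ⟨rfl, rfl⟩ := hst s t h1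
    rw [hfq] at hr
    rw [frame.hom_injective (hr.trans (map_one _).symm)]
    rfl
  refine ⟨f, hinj, ?_, hfz, fun r hr => ?_⟩
  · refine Subgroup.eq_of_le_of_card_ge ?_ ?_
    · rintro _ ⟨r, rfl⟩
      rw [Subgroup.mem_comap, hφ]
      refine mul_mem ?_ ?_
      · cases r.s
        · exact one_mem _
        · exact mem_fours.2 (Or.inr (Or.inl rfl))
      · cases r.t
        · exact one_mem _
        · exact mem_fours.2 (Or.inr (Or.inr (Or.inl rfl)))
    · rw [Nat.card_congr (MonoidHom.ofInjective hinj).symm.toEquiv, R0.natCard, fours_eq,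
        ← Subgroup.card_map_of_injective stabIncl_injective]
      exact natCard_sylowSub.le
  · obtain ⟨q, s, t⟩ := r
    obtain ⟨rfl, rfl⟩ := hr
    exact hQ q

/-- The hypotheses for the centraliser. -/
theorem nonempty_five : Nonempty (Five lineStab) := by
  obtain ⟨f, hinj, hrange, hfz, hfQ⟩ := exists_coord
  obtain ⟨ha, hb, hab, -, -⟩ := outer_rel
  refine ⟨{ F := frame, φ := pairHom, act := act_frame, ker := fun g hg => ?_, range := range_pairHom,
            lift_sq := fun g h4 h1 hz => ?_, a := aEl, b := bEl, a_sq := ha, b_sq := hb, ab := hab,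
            φa := pairHom_outer.1, φb := pairHom_outer.2 }⟩
  · rw [range_frame]; exact hg
  · obtain ⟨r, rfl⟩ : g ∈ f.range := hrange ▸ h4
    rw [← hfz, ← map_mul] at hz
    have hr := hinj hz
    have hq : ¬ R0.inQ r := fun hq => h1 (hfQ r hq)
    exact absurd ((R0.outside r hq (Or.inr hr)).1.symm.trans hr) (fun e => R0.u_basic.2.2.2 e.symm)

/-- Coordinates of a Sylow 2-subgroup. -/
theorem nonempty_sylow (P : Sylow 2 Cfsg.Spor.J2) : Nonempty (R0 ≃* (P : Subgroup Cfsg.Spor.J2)) := by
  haveI : Fact (Nat.Prime 2) := ⟨Nat.prime_two⟩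
  obtain ⟨f, hinj, hrange, -, -⟩ := exists_coord
  haveI : Finite Cfsg.Spor.J2 := Finite.of_equiv _ j2Equiv.symm.toEquiv
  let P' : Sylow 2 lineHom.range := P.mapSurjective (f := j2Equiv.toMonoidHom) j2Equiv.surjective
  let e1 : (P : Subgroup Cfsg.Spor.J2) ≃* (P' : Subgroup lineHom.range) := j2Equiv.subgroupMap _
  let e2 : (fours.comap pairHom).map stabIncl ≃* (sylowTwo : Subgroup lineHom.range) :=
    MulEquiv.subgroupCongr (by rw [fours_eq]; rfl)
  let e3 : R0 ≃* (fours.comap pairHom).map stabIncl :=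
    (MonoidHom.ofInjective hinj).trans ((MulEquiv.subgroupCongr hrange).trans
      (Subgroup.equivMapOfInjective _ stabIncl stabIncl_injective))
  exact ⟨(e3.trans e2).trans ((sylowTwo.equiv P').trans e1.symm)⟩

/-- The centraliser of a 2-central involution. -/
theorem exists_centralizer : ∃ (z' : Cfsg.Spor.J2) (Q : Sylow 2 Cfsg.Spor.J2), orderOf z' = 2 ∧
    z' ∈ (Q : Subgroup Cfsg.Spor.J2) ∧ (∀ s ∈ (Q : Subgroup Cfsg.Spor.J2), s * z' = z' * s) ∧
    Nonempty (Five (Subgroup.centralizer ({z'} : Set Cfsg.Spor.J2))) := by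
  haveI : Fact (Nat.Prime 2) := ⟨Nat.prime_two⟩
  obtain ⟨D⟩ := nonempty_five
  haveI : Finite Cfsg.Spor.J2 := Finite.of_equiv _ j2Equiv.symm.toEquiv
  let e := j2Equiv.symm
  have ht : stabIncl (coreEl 6) ∈ (sylowTwo : Subgroup lineHom.range) :=
    coreSub_le ⟨_, coreEl_mem 6, rfl⟩
  rw [stabIncl_coreEl_six] at ht
  refine ⟨e (tau root), sylowTwo.mapSurjective (f := e.toMonoidHom) e.surjective, ?_, ⟨_, ht, rfl⟩, ?_, ?_⟩
  · rw [e.orderOf_eq]
    exact orderOf_eq_prime (by rw [pow_two]; exact tau_mul_self _) tau_root_ne_one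
  · rintro _ ⟨s, ⟨c, -, rfl⟩, rfl⟩
    show e (stabIncl c) * e (tau root) = e (tau root) * e (stabIncl c)
    rw [← map_mul, ← map_mul, stab_commute]
  · have hC : (Subgroup.centralizer ({tau root} : Set lineHom.range)) = stabIncl.range := by
      rw [centralizer_tau_root, ← line305.2.1, stab_line]
      ext x
      exact ⟨fun hx => ⟨⟨x.1, hx⟩, rfl⟩, fun ⟨c, hc⟩ => hc ▸ c.2⟩
    have hmap : (Subgroup.centralizer ({tau root} : Set lineHom.range)).map e.toMonoidHom =
        Subgroup.centralizer ({e (tau root)} : Set Cfsg.Spor.J2) := by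
      ext y
      rw [Subgroup.mem_map_equiv, Subgroup.mem_centralizer_singleton_iff,
        Subgroup.mem_centralizer_singleton_iff, ← e.injective.eq_iff, map_mul, map_mul, MulEquiv.apply_symm_apply]
    exact ⟨D.map ((((MonoidHom.ofInjective stabIncl_injective).trans (MulEquiv.subgroupCongr hC.symm)).trans
      (e.subgroupMap _)).trans (MulEquiv.subgroupCongr hmap))⟩

end Jan

end Cfsg.Agent.J2Sylow
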