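import Cfsg.Agent.Lib.J2Sylow.Model

/-!
# Elementary abelian subgroups of order sixteen in the coordinates
-/

set_option autoImplicit false
set_option maxRecDepth 100000

namespace Cfsg.Agent.J2Sylow.R0

theorem card_cent : ∀ y : R0, y * y = 1 → inV y ∨
    (Finset.univ.filter fun x : R0 => x * y = y * x).card = 16 := by decide +kernel

theorem conj_cent_aa : ∀ q : R0, inB q → ∀ w : R0, w * aa = aa * w → q * w * q⁻¹ * aa = aa * (q * w * q⁻¹) := by
  decide +kernel

theorem move_aa : ∃ q : R0, inB q ∧ q * aa * q⁻¹ = aa * u 4 := by decide +kernel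

theorem move_outer : ∀ p : R0, p * aa = aa * p → ¬ inV p → ∃ q : R0, inB q ∧ q * p * q⁻¹ = p * z := by
  decide +kernel

theorem flip_cent : ∀ w : R0, (w * flip aa = flip aa * w ↔ flip w * aa = aa * flip w) := by decide +kernel

theorem flip_flip : ∀ w : R0, flip (flip w) = w := by decide +kernel

theorem aa_facts : ¬ inQ aa ∧ aa * aa = 1 ∧ ¬ inV aa ∧
    (∀ v, inV v → v * aa = aa * v) ∧ (∀ v, inV v → inV (flip v)) ∧
    u 0 * u 1 * (u 0 * u 1) = z ∧ z * aa = aa * z := by decide +kernel

theorem inV_mul : ∀ v w : R0, inV v → inV w → inV (v * w) := by decide +kernel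

end Cfsg.Agent.J2Sylow.R0
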