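import Cfsg.Agent.Lib.J2Sylow.Setup
import Cfsg.Agent.Lib.J2Sylow.ModelThree

/-!
# Outer involutions are not fused to `u 4` in the centraliser of `z`

* `Cfg.not_fused`
-/

set_option autoImplicit false
set_option maxRecDepth 100000
set_option linter.style.haveILetI false

open Subgroup

namespace Cfsg.Agent.J2Sylow.Cfg

variable {G : Type*} [Group G] (K : Cfg G)

/-- The elementary abelian subgroup of order sixteen on `aa`. -/
def A : Subgroup G := (K.S : Subgroup G) ⊓ centralizer ({K.ι R0.aa} : Set G)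

theorem mem_A {r : R0} : K.ι r ∈ K.A ↔ r * R0.aa = R0.aa * r := by
  rw [A, mem_inf, mem_centralizer_singleton_iff, K.ι_comm]
  exact ⟨fun h => h.2, fun h => ⟨K.ι_mem r, h⟩⟩

theorem aa_data : R0.aa * R0.aa = 1 ∧ ∀ w : R0, w * R0.aa = R0.aa * w → w * w = 1 ∧ R0.inB w := by
  obtain ⟨h1, h2, -⟩ := R0.aa_facts
  exact ⟨h2, (R0.outside R0.aa h1 (Or.inl h2)).2.2.1⟩

theorem card_A : Nat.card K.A = 16 := by
  rw [K.card_of_mem (X := K.A) inf_le_left (fun r => r * R0.aa = R0.aa * r) fun r => K.mem_A]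
  obtain ⟨h1, h2, -⟩ := R0.aa_facts
  exact (R0.outside R0.aa h1 (Or.inl h2)).2.2.2.2

theorem A_le_B : K.A ≤ K.B := by
  intro x hx
  obtain ⟨r, rfl⟩ := K.exists_ι hx.1
  exact K.mem_B.2 ((aa_data).2 r (K.mem_A.1 hx)).2

section Fin

variable [Finite G]

/-- An elementary abelian subgroup of order 16 of the Sylow subgroup is one of two conjugates. -/
theorem sixteen {X : Subgroup G} (hXS : X ≤ (K.S : Subgroup G)) (hX : Nat.card X = 16)
    (hc : ∀ x ∈ X, ∀ y ∈ X, x * y = y * x) (hs : ∀ x ∈ X, x * x = 1) :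
    X = K.A ∨ ∀ r, K.ι r ∈ X ↔ r * R0.flip R0.aa = R0.flip R0.aa * r := by
  classical
  obtain ⟨w, hw, hwV⟩ : ∃ w, K.ι w ∈ X ∧ ¬ R0.inV w := by
    by_contra h
    push Not at h
    have hsub : X ≤ Subgroup.closure ({K.z, K.u 4} : Set G) := by
      intro x hx
      obtain ⟨r, rfl⟩ := K.exists_ι (hXS hx)
      rcases h r hx with e | e | e | e <;> rw [e]
      · rw [map_one]; exact one_mem _
      · exact subset_closure (Or.inl rfl)
      · exact subset_closure (Or.inr rfl)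
      · rw [map_mul]; exact mul_mem (subset_closure (Or.inr rfl)) (subset_closure (Or.inl rfl))
    have hle : ∀ r, K.ι r ∈ X → R0.inV r := h
    have hcard : Nat.card X ≤ (Finset.univ.filter fun r : R0 => R0.inV r).card := by
      rw [← K.card_of_mem (X := (K.S : Subgroup G) ⊓ Subgroup.closure ({K.z, K.u 4} : Set G)) inf_le_left R0.inV
        fun r => ⟨fun hr => ?_, fun hr => ?_⟩]
      · exact Nat.le_of_dvd Nat.card_pos (card_dvd_of_le (le_inf hXS hsub))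
      · obtain ⟨-, hcl⟩ := hr
        have : ∀ x ∈ Subgroup.closure ({K.z, K.u 4} : Set G), ∃ v, R0.inV v ∧ K.ι v = x := by
          intro x hx
          induction hx using Subgroup.closure_induction with
          | mem y hy =>
            rcases hy with rfl | rfl
            · exact ⟨R0.z, Or.inr (Or.inl rfl), rfl⟩
            · exact ⟨R0.u 4, Or.inr (Or.inr (Or.inl rfl)), rfl⟩
          | one => exact ⟨1, Or.inl rfl, map_one _⟩
          | mul a b _ _ ha hb =>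
            obtain ⟨va, ha1, rfl⟩ := ha
            obtain ⟨vb, hb1, rfl⟩ := hb
            exact ⟨va * vb, R0.inV_mul _ _ ha1 hb1, map_mul _ _ _⟩
          | inv a _ ha =>
            obtain ⟨va, ha1, rfl⟩ := ha
            have : ∀ v, R0.inV v → R0.inV v⁻¹ := by decide +kernel
            exact ⟨va⁻¹, this va ha1, map_inv _ _⟩
        obtain ⟨v, hv, e⟩ := this _ hcl
        exact K.inj e ▸ hv
      · refine ⟨K.ι_mem r, ?_⟩
        rcases hr with e | e | e | e <;> rw [e]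
        · rw [map_one]; exact one_mem _
        · exact subset_closure (Or.inl rfl)
        · exact subset_closure (Or.inr rfl)
        · rw [map_mul]; exact mul_mem (subset_closure (Or.inr rfl)) (subset_closure (Or.inl rfl))
    have h4 : (Finset.univ.filter fun r : R0 => R0.inV r).card = 4 := by decide +kernel
    omega
  have hw2 : w * w = 1 := K.inj (by rw [map_mul, hs _ hw, map_one])
  have hle : X ≤ (K.S : Subgroup G) ⊓ centralizer ({K.ι w} : Set G) :=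
    le_inf hXS fun x hx => mem_centralizer_singleton_iff.2 (hc x hx _ hw)
  have hmemC : ∀ r, K.ι r ∈ (K.S : Subgroup G) ⊓ centralizer ({K.ι w} : Set G) ↔ r * w = w * r := fun r => by
    rw [mem_inf, mem_centralizer_singleton_iff, K.ι_comm]
    exact ⟨fun h => h.2, fun h => ⟨K.ι_mem r, h⟩⟩
  have hXeq : X = (K.S : Subgroup G) ⊓ centralizer ({K.ι w} : Set G) := by
    refine Subgroup.eq_of_le_of_card_ge hle (le_of_eq ?_)
    rw [hX, K.card_of_mem inf_le_left (fun r => r * w = w * r) hmemC]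
    exact (R0.card_cent w hw2).resolve_left hwV
  have hmem : ∀ r, K.ι r ∈ X ↔ r * w = w * r := fun r => by rw [hXeq]; exact hmemC r
  have hwQ : ¬ R0.inQ w := fun hq => by
    obtain ⟨y, hy, hy2⟩ := R0.inQ_cent w hw2 hq hwV
    exact hy2 (K.inj (by rw [map_mul, hs _ ((hmem y).2 hy), map_one]))
  have hwB : R0.inB w := (R0.outside w hwQ (Or.inl hw2)).2.1
  obtain ⟨ha1, ha2, -⟩ := R0.aa_facts
  rcases R0.outside_pair R0.aa ha1 ha2 w hw2 hwB hwV with h | h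
  · left
    ext x
    constructor
    · intro hx
      obtain ⟨r, rfl⟩ := K.exists_ι (hXS hx)
      exact K.mem_A.2 ((h r).1 ((hmem r).1 hx))
    · intro hx
      obtain ⟨r, rfl⟩ := K.exists_ι hx.1
      exact (hmem r).2 ((h r).2 (K.mem_A.1 hx))
  · right
    exact fun r => (hmem r).trans (h r)

include K in
theorem card_two_group_le {P : Subgroup G} (hP : IsPGroup 2 P) : Nat.card P ≤ 128 := by
  obtain ⟨c, -, hc⟩ := K.conj_into (X := ⊤) le_top le_top hP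
  rw [← K.card_S, ← Subgroup.card_map_of_injective (K := P) (f := (MulAut.conj c).toMonoidHom) (MulAut.conj c).injective]
  refine Nat.le_of_dvd Nat.card_pos (card_dvd_of_le ?_)
  rintro _ ⟨x, hx, rfl⟩
  exact hc x hx

/-- A 2-group of order at least 128 does not normalise an elementary abelian group of order 16. -/
theorem not_normalizes {P : Subgroup G} (hP : IsPGroup 2 P) (hcard : 128 ≤ Nat.card P)
    (hAP : K.A ≤ P) (hPA : ∀ p ∈ P, ∀ x ∈ K.A, p * x * p⁻¹ ∈ K.A) : False := by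
  obtain ⟨c, -, hc⟩ := K.conj_into (X := ⊤) le_top le_top hP
  have hPeq : P.map (MulAut.conj c).toMonoidHom = (K.S : Subgroup G) := by
    refine Subgroup.eq_of_le_of_card_ge (fun _ ⟨x, hx, e⟩ => e ▸ hc x hx) ?_
    rw [Subgroup.card_map_of_injective (MulAut.conj c).injective, K.card_S]
    exact hcard
  set X := K.A.map (MulAut.conj c).toMonoidHom with hX
  have hXS : X ≤ (K.S : Subgroup G) := hPeq ▸ map_mono hAP
  have hinv : ∀ s ∈ (K.S : Subgroup G), ∀ x ∈ X, s * x * s⁻¹ ∈ X := by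
    intro s hs x hx
    rw [← hPeq] at hs
    obtain ⟨p, hp, rfl⟩ := hs
    obtain ⟨y, hy, rfl⟩ := hx
    exact ⟨p * y * p⁻¹, hPA p hp y hy, by simp; group⟩
  have hA2 : ∀ x ∈ K.A, x * x = 1 := fun x hx => by
    obtain ⟨r, rfl⟩ := K.exists_ι hx.1
    rw [← map_mul, ((aa_data).2 r (K.mem_A.1 hx)).1, map_one]
  have hcm : ∀ x ∈ K.A, ∀ y ∈ K.A, x * y = y * x := fun x hx y hy => by
    calc x * y = x * (x * y * (x * y)) * y := by rw [hA2 _ (mul_mem hx hy), mul_one]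
      _ = x * x * (y * x) * (y * y) := by group
      _ = y * x := by rw [hA2 x hx, hA2 y hy, one_mul, mul_one]
  have h16 : Nat.card X = 16 := by
    rw [hX, Subgroup.card_map_of_injective (MulAut.conj c).injective, K.card_A]
  have hXc : ∀ x ∈ X, ∀ y ∈ X, x * y = y * x := by
    rintro _ ⟨x, hx, rfl⟩ _ ⟨y, hy, rfl⟩
    rw [← map_mul, ← map_mul, hcm x hx y hy]
  have hXs : ∀ x ∈ X, x * x = 1 := by
    rintro _ ⟨x, hx, rfl⟩
    rw [← map_mul, hA2 x hx, map_one]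
  obtain ⟨ha1, ha2, -⟩ := R0.aa_facts
  obtain ⟨w, hw, hwf⟩ := R0.flip_ne R0.aa ha1 ha2
  have h0 := hinv (K.u 0) (K.ι_mem _)
  have hconj : ∀ r : R0, K.u 0 * K.ι r * (K.u 0)⁻¹ = K.ι (R0.flip r) := fun r => by
    rw [(inv_eq_of_mul_eq_one_right (K.frame.u_sq 0) : (K.u 0)⁻¹ = K.u 0), u, ← map_mul, ← map_mul]
  rcases K.sixteen hXS h16 hXc hXs with e | e
  · have hm := h0 _ (e ▸ K.mem_A.2 hw)
    rw [hconj, e, K.mem_A] at hm
    exact hwf ((R0.flip_cent w).2 hm)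
  · have hw' : K.ι (R0.flip w) ∈ X := (e _).2 ((R0.flip_cent _).2 (by rw [R0.flip_flip]; exact hw))
    have hm := h0 _ hw'
    rw [hconj, R0.flip_flip, e] at hm
    exact hwf hm

/-- `aa` is not conjugate to `u 4` up to `z` inside the centraliser of `z`. -/
theorem not_fused {c : G} (hc : c * K.z = K.z * c) :
    c * K.ι R0.aa * c⁻¹ ≠ K.u 4 ∧ c * K.ι R0.aa * c⁻¹ ≠ K.u 4 * K.z := by
  haveI : Fact (Nat.Prime 2) := ⟨Nat.prime_two⟩
  suffices h : ∀ v : R0, (v = R0.u 4 ∨ v = R0.u 4 * R0.z) → c * K.ι R0.aa * c⁻¹ ≠ K.ι v by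
    refine ⟨h _ (Or.inl rfl), ?_⟩
    rw [z, u, ← map_mul]
    exact h _ (Or.inr rfl)
  intro v0 hv0 hc0
  have hv0V : R0.inV v0 := hv0.elim (fun e => Or.inr (Or.inr (Or.inl e))) fun e => Or.inr (Or.inr (Or.inr e))
  obtain ⟨-, -, ha3, haV, hVf, hqz, hzaa⟩ := R0.aa_facts
  have hA2 : ∀ x ∈ K.A, x * x = 1 := fun x hx => by
    obtain ⟨r, rfl⟩ := K.exists_ι hx.1
    rw [← map_mul, ((aa_data).2 r (K.mem_A.1 hx)).1, map_one]
  have hcm : ∀ x ∈ K.A, ∀ y ∈ K.A, x * y = y * x := fun x hx y hy => by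
    calc x * y = x * (x * y * (x * y)) * y := by rw [hA2 _ (mul_mem hx hy), mul_one]
      _ = x * x * (y * x) * (y * y) := by group
      _ = y * x := by rw [hA2 x hx, hA2 y hy, one_mul, mul_one]
  -- `B` is a Sylow subgroup of the centraliser of the image
  set Y : Subgroup G := centralizer ({K.z} : Set G) ⊓ centralizer ({K.ι v0} : Set G) with hY
  have hBY : K.B ≤ Y := fun x hx => by
    obtain ⟨r, rfl⟩ := K.exists_ι hx.1
    exact ⟨K.S_le_centralizer hx.1,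
      mem_centralizer_singleton_iff.2 (K.ι_comm.2 (R0.comm_V r v0 (K.mem_B.1 hx) hv0V))⟩
  obtain ⟨P, hP⟩ := ((K.S.2.to_le (inf_le_left : K.B ≤ _)).comap_of_injective Y.subtype
    Y.subtype_injective).exists_le_sylow
  set P' : Subgroup G := (P : Subgroup Y).map Y.subtype with hP'
  have hBP' : K.B ≤ P' := fun x hx => mem_map.2 ⟨⟨x, hBY hx⟩, hP hx, rfl⟩
  have hPB : P' = K.B := by
    refine (Subgroup.eq_of_le_of_card_ge hBP' ?_).symm
    have hle := K.card_two_group_le (P.2.map Y.subtype)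
    obtain ⟨i, hi⟩ := IsPGroup.iff_card.1 (P.2.map Y.subtype)
    rw [← hP'] at hle hi
    rw [K.card_B, hi]
    rw [hi] at hle
    by_contra hgt
    push Not at hgt
    have hi7 : i = 7 := by
      have h1 : 2 ^ i ≤ 2 ^ 7 := by simpa using hle
      have h2 : 2 ^ 6 < 2 ^ i := by simpa using hgt
      have := (Nat.pow_le_pow_iff_right (a := 2) (by norm_num)).1 h1
      have := (Nat.pow_lt_pow_iff_right (a := 2) (by norm_num)).1 h2
      omega
    obtain ⟨d, hd, hdS⟩ := K.conj_into K.S_le_centralizer ((map_subtype_le _).trans inf_le_left)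
      (P.2.map Y.subtype)
    rw [mem_centralizer_singleton_iff] at hd
    have heq : P'.map (MulAut.conj d).toMonoidHom = (K.S : Subgroup G) := by
      refine Subgroup.eq_of_le_of_card_ge (fun _ ⟨x, hx, e⟩ => e ▸ hdS x hx) ?_
      rw [Subgroup.card_map_of_injective (MulAut.conj d).injective, K.card_S, hi, hi7]
      norm_num
    have hvB : K.ι v0 ∈ K.B := K.mem_B.2 (by
      rcases hv0 with rfl | rfl
      · rfl
      · show R0.u 4 * R0.z * R0.u 4 = R0.u 4 * (R0.u 4 * R0.z)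
        rw [mul_assoc, ← R0.z_comm])
    obtain ⟨x, hx⟩ := K.exists_ι (hdS _ (hBP' hvB))
    rcases R0.center_cases x (fun y => K.ι_comm.1 (by
      obtain ⟨p, hp, e⟩ := heq.ge (K.ι_mem y)
      rw [hx, ← e]
      show d * K.ι v0 * d⁻¹ * (d * p * d⁻¹) = d * p * d⁻¹ * (d * K.ι v0 * d⁻¹)
      rw [conj_mul, conj_mul]
      congr 2
      exact (mem_centralizer_singleton_iff.1 (map_subtype_le _ hp : p ∈ Y).2).symm)) with rfl | rfl
    · rw [map_one] at hx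
      have h1 : K.ι v0 = 1 := conj_eq_one_iff.1 hx.symm
      have : v0 ≠ 1 := by rcases hv0 with rfl | rfl <;> decide +kernel
      exact this (K.inj (h1.trans (map_one _).symm))
    · have h1 : K.ι v0 = K.z := mul_left_cancel (mul_right_cancel
        (hx.symm.trans (mul_inv_eq_iff_eq_mul.2 hd).symm))
      have : v0 ≠ R0.z := by rcases hv0 with rfl | rfl <;> decide +kernel
      exact this (K.inj h1)
  -- move the image of `A` into `B`
  have hAimg : K.A.map (MulAut.conj c).toMonoidHom ≤ Y := by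
    rintro _ ⟨x, hx, rfl⟩
    show c * x * c⁻¹ ∈ Y
    refine ⟨mem_centralizer_singleton_iff.2 ?_, mem_centralizer_singleton_iff.2 ?_⟩
    · have e : K.z = c * K.z * c⁻¹ := (mul_inv_eq_iff_eq_mul.2 hc).symm
      rw [e, conj_mul, conj_mul, K.z_comm hx.1]
    · rw [← hc0, conj_mul, conj_mul, mem_centralizer_singleton_iff.1 hx.2]
  obtain ⟨R, hR⟩ := (((K.S.2.to_le (inf_le_left : K.A ≤ _)).map (MulAut.conj c).toMonoidHom).comap_of_injective
    Y.subtype Y.subtype_injective).exists_le_sylow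
  obtain ⟨d, hd⟩ := MulAction.exists_smul_eq Y R P
  have hdA : ∀ x ∈ K.A, (d : G) * (c * x * c⁻¹) * (d : G)⁻¹ ∈ K.B := by
    intro x hx
    rw [← hPB]
    have hm : c * x * c⁻¹ ∈ Y := hAimg ⟨x, hx, rfl⟩
    refine mem_map.2 ⟨d * ⟨_, hm⟩ * d⁻¹, ?_, rfl⟩
    rw [← hd, Sylow.coe_subgroup_smul]
    exact (Subgroup.mem_map).2 ⟨_, hR ⟨x, hx, rfl⟩, rfl⟩
  set c1 : G := d * c with hc1
  have hc1z : c1 * K.z = K.z * c1 := by
    rw [hc1, mul_assoc, hc, ← mul_assoc, mem_centralizer_singleton_iff.1 d.2.1, mul_assoc]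
  have hc1a : c1 * K.ι R0.aa * c1⁻¹ = K.ι v0 := by
    rw [hc1, show (d : G) * c * K.ι R0.aa * ((d : G) * c)⁻¹ = d * (c * K.ι R0.aa * c⁻¹) * (d : G)⁻¹ by group, hc0,
      mem_centralizer_singleton_iff.1 d.2.2]
    group
  -- adjust to normalise `A`
  obtain ⟨n, hnz, hnA, v, hv, hnv⟩ : ∃ n : G, n * K.z = K.z * n ∧ (∀ x ∈ K.A, n * x * n⁻¹ ∈ K.A) ∧
      ∃ v : R0, R0.inV v ∧ n * K.ι R0.aa * n⁻¹ = K.ι v := by
    set X := K.A.map (MulAut.conj c1).toMonoidHom with hX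
    have hXS : X ≤ (K.S : Subgroup G) := by
      rintro _ ⟨x, hx, rfl⟩
      have := (hdA x hx).1
      show c1 * x * c1⁻¹ ∈ _
      rw [hc1, show (d : G) * c * x * ((d : G) * c)⁻¹ = d * (c * x * c⁻¹) * (d : G)⁻¹ by group]
      exact this
    have h16 : Nat.card X = 16 := by
      rw [hX, Subgroup.card_map_of_injective (MulAut.conj c1).injective, K.card_A]
    have hXc : ∀ x ∈ X, ∀ y ∈ X, x * y = y * x := by
      rintro _ ⟨x, hx, rfl⟩ _ ⟨y, hy, rfl⟩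
      rw [← map_mul, ← map_mul, hcm x hx y hy]
    have hXs : ∀ x ∈ X, x * x = 1 := by
      rintro _ ⟨x, hx, rfl⟩
      rw [← map_mul, hA2 x hx, map_one]
    rcases K.sixteen hXS h16 hXc hXs with e | e
    · exact ⟨c1, hc1z, fun x hx => e.le ⟨x, hx, rfl⟩, v0, hv0V, hc1a⟩
    · have hu : K.u 0 * K.z = K.z * K.u 0 := (K.frame.z_u 0).symm
      refine ⟨K.u 0 * c1, by rw [mul_assoc, hc1z, ← mul_assoc, hu, mul_assoc], fun x hx => ?_,
        R0.flip v0, hVf v0 hv0V, ?_⟩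
      · obtain ⟨r, hr⟩ := K.exists_ι (hXS ⟨x, hx, rfl⟩)
        have hrX : K.ι r ∈ X := hr ▸ ⟨x, hx, rfl⟩
        rw [show K.u 0 * c1 * x * (K.u 0 * c1)⁻¹ = K.u 0 * (c1 * x * c1⁻¹) * (K.u 0)⁻¹ by group,
          show c1 * x * c1⁻¹ = K.ι r from hr.symm, (inv_eq_of_mul_eq_one_right (K.frame.u_sq 0) : (K.u 0)⁻¹ = K.u 0), u, ← map_mul,
          ← map_mul, K.mem_A]
        exact (R0.flip_cent r).1 ((e r).1 hrX)
      · rw [show K.u 0 * c1 * K.ι R0.aa * (K.u 0 * c1)⁻¹ = K.u 0 * (c1 * K.ι R0.aa * c1⁻¹) * (K.u 0)⁻¹ by group,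
          hc1a, (inv_eq_of_mul_eq_one_right (K.frame.u_sq 0) : (K.u 0)⁻¹ = K.u 0), u, ← map_mul, ← map_mul]
  -- elements of the normaliser
  have hnA' : ∀ x ∈ K.A, n⁻¹ * x * n ∈ K.A := by
    intro x hx
    have heq : K.A.map (MulAut.conj n).toMonoidHom = K.A := Subgroup.eq_of_le_of_card_ge
      (fun _ ⟨y, hy, e⟩ => e ▸ hnA y hy) (by rw [Subgroup.card_map_of_injective (MulAut.conj n).injective])
    obtain ⟨y, hy, rfl⟩ := heq.ge hx
    show n⁻¹ * (n * y * n⁻¹) * n ∈ K.A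
    rwa [show n⁻¹ * (n * y * n⁻¹) * n = y by group]
  have hVA : ∀ v, R0.inV v → K.ι v ∈ K.A := fun v hv => K.mem_A.2 (haV v hv)
  have haA : K.ι R0.aa ∈ K.A := K.mem_A.2 rfl
  obtain ⟨q1, hq1, hq1a⟩ := R0.move_aa
  obtain ⟨p, hp⟩ := K.exists_ι (hnA _ (hVA _ (Or.inr (Or.inr (Or.inl rfl))))).1
  have hpV : ¬ R0.inV p := by
    intro hp'
    have h4 : ∀ w, R0.inV w → ∃ w', R0.inV w' ∧ n * K.ι w' * n⁻¹ = K.ι w := by
      have hnz' : n * K.z * n⁻¹ = K.z := mul_inv_eq_iff_eq_mul.2 hnz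
      have hp0 : p ≠ 1 ∧ p ≠ R0.z := ⟨fun e => by
        rw [e, map_one] at hp
        exact (R0.u_basic.1 4).2.1 (K.inj ((conj_eq_one_iff.1 hp.symm).trans (map_one _).symm)), fun e => by
        rw [e] at hp
        exact (R0.u_basic.1 4).2.2.1 (K.inj (mul_left_cancel (mul_right_cancel (hp.symm.trans hnz'.symm))))⟩
      intro w hw
      rcases hw with rfl | rfl | rfl | rfl
      · exact ⟨1, Or.inl rfl, by rw [map_one]; group⟩
      · exact ⟨R0.z, Or.inr (Or.inl rfl), hnz'⟩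
      all_goals
        rcases hp' with e | e | e | e
        · exact absurd e hp0.1
        · exact absurd e hp0.2
      · exact ⟨R0.u 4, Or.inr (Or.inr (Or.inl rfl)), by rw [← hp, e]⟩
      · refine ⟨R0.u 4 * R0.z, Or.inr (Or.inr (Or.inr rfl)), ?_⟩
        rw [map_mul, ← conj_mul, ← hp, show n * K.ι R0.z * n⁻¹ = K.ι R0.z from hnz', e, ← map_mul, mul_assoc,
          R0.u_basic.2.2.1, mul_one]
      · refine ⟨R0.u 4 * R0.z, Or.inr (Or.inr (Or.inr rfl)), ?_⟩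
        rw [map_mul, ← conj_mul, ← hp, show n * K.ι R0.z * n⁻¹ = K.ι R0.z from hnz', e, ← map_mul]
      · exact ⟨R0.u 4, Or.inr (Or.inr (Or.inl rfl)), by rw [← hp, e]⟩
    obtain ⟨w', hw', e⟩ := h4 v hv
    exact ha3 (K.inj (mul_left_cancel (mul_right_cancel (hnv.trans e.symm))) ▸ hw')
  obtain ⟨q2, hq2, hq2p⟩ := R0.move_outer p (K.mem_A.1 (hp ▸ hnA _ (hVA _ (Or.inr (Or.inr (Or.inl rfl)))))) hpV
  set M : Subgroup G := centralizer ({K.z} : Set G) ⊓ normalizer (K.A : Set G) with hM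
  have mkM : ∀ {g : G}, g * K.z = K.z * g → (∀ x ∈ K.A, g * x * g⁻¹ ∈ K.A) → g ∈ M := by
    intro g hg hgA
    refine ⟨mem_centralizer_singleton_iff.2 hg, mem_normalizer_iff.2 fun x => ⟨hgA x, fun hx => ?_⟩⟩
    have heq : K.A.map (MulAut.conj g).toMonoidHom = K.A := Subgroup.eq_of_le_of_card_ge
      (fun _ ⟨y, hy, e⟩ => e ▸ hgA y hy) (by rw [Subgroup.card_map_of_injective (MulAut.conj g).injective])
    obtain ⟨y, hy, e⟩ := heq.ge hx
    exact (MulAut.conj g).injective (e : MulAut.conj g y = MulAut.conj g x) ▸ hy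
  have hBM : K.B ≤ M := fun b hb => mkM (K.z_comm hb.1) fun x hx => by
    obtain ⟨rb, rfl⟩ := K.exists_ι hb.1
    obtain ⟨rx, rfl⟩ := K.exists_ι hx.1
    rw [← map_inv, ← map_mul, ← map_mul, K.mem_A]
    exact R0.conj_cent_aa rb (K.mem_B.1 hb) rx (K.mem_A.1 hx)
  have hnM : n ∈ M := mkM hnz hnA
  set g : G := K.ι q1 * (n⁻¹ * K.ι q2 * n) with hgdef
  have hgM : g ∈ M := mul_mem (hBM (K.mem_B.2 hq1))
    (mul_mem (mul_mem (inv_mem hnM) (hBM (K.mem_B.2 hq2))) hnM)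
  have hzg : g * K.z * g⁻¹ = K.z := mul_inv_eq_iff_eq_mul.2 (mem_centralizer_singleton_iff.1 hgM.1)
  have hga : g * K.ι R0.aa * g⁻¹ = K.ι R0.aa * K.u 4 := by
    have e1 : n⁻¹ * K.ι q2 * n * K.ι R0.aa * (n⁻¹ * K.ι q2 * n)⁻¹ = K.ι R0.aa := by
      rw [show n⁻¹ * K.ι q2 * n * K.ι R0.aa * (n⁻¹ * K.ι q2 * n)⁻¹ =
        n⁻¹ * (K.ι q2 * (n * K.ι R0.aa * n⁻¹) * (K.ι q2)⁻¹) * n by group, hnv,
        K.ι_comm.2 (R0.comm_V q2 v hq2 hv), mul_inv_cancel_right, ← hnv]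
      group
    rw [hgdef, show K.ι q1 * (n⁻¹ * K.ι q2 * n) * K.ι R0.aa * (K.ι q1 * (n⁻¹ * K.ι q2 * n))⁻¹ =
      K.ι q1 * (n⁻¹ * K.ι q2 * n * K.ι R0.aa * (n⁻¹ * K.ι q2 * n)⁻¹) * (K.ι q1)⁻¹ by group, e1, u,
      ← map_inv, ← map_mul, ← map_mul, hq1a, map_mul]
  have hgu : g * K.u 4 * g⁻¹ = K.u 4 * K.z := by
    have e1 : n⁻¹ * K.ι q2 * n * K.u 4 * (n⁻¹ * K.ι q2 * n)⁻¹ = K.u 4 * K.z := by
      rw [show n⁻¹ * K.ι q2 * n * K.u 4 * (n⁻¹ * K.ι q2 * n)⁻¹ =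
        n⁻¹ * (K.ι q2 * (n * K.ι (R0.u 4) * n⁻¹) * (K.ι q2)⁻¹) * n by rw [u]; group, ← hp,
        show K.ι q2 * K.ι p * (K.ι q2)⁻¹ = K.ι p * K.z by rw [z, ← map_inv, ← map_mul, ← map_mul, hq2p, map_mul],
        hp, show n * K.ι (R0.u 4) * n⁻¹ * K.z = n * (K.ι (R0.u 4) * K.z) * n⁻¹ by
          rw [mul_assoc (n * K.ι (R0.u 4)), (Commute.inv_left (show Commute n K.z from hnz)).eq]; group]
      rw [u]
      group
    rw [hgdef, show K.ι q1 * (n⁻¹ * K.ι q2 * n) * K.u 4 * (K.ι q1 * (n⁻¹ * K.ι q2 * n))⁻¹ =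
      K.ι q1 * (n⁻¹ * K.ι q2 * n * K.u 4 * (n⁻¹ * K.ι q2 * n)⁻¹) * (K.ι q1)⁻¹ by group, e1, u, z,
      ← map_inv, ← map_mul, ← map_mul, ← map_mul,
      R0.comm_V q1 _ hq1 (Or.inr (Or.inr (Or.inr rfl))), mul_inv_cancel_right]
  -- the order of the action
  have step : ∀ x : G, g * (x * K.u 4) * g⁻¹ = g * x * g⁻¹ * (K.u 4 * K.z) := fun x => by rw [← conj_mul, hgu]
  have hu4 : K.u 4 * K.u 4 = 1 := K.frame.u_sq 4
  have hg2 : g ^ 2 * K.ι R0.aa * (g ^ 2)⁻¹ = K.ι R0.aa * K.z := by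
    rw [show g ^ 2 * K.ι R0.aa * (g ^ 2)⁻¹ = g * (g * K.ι R0.aa * g⁻¹) * g⁻¹ by rw [pow_two]; group, hga, step, hga,
      mul_assoc, ← mul_assoc (K.u 4), hu4, one_mul]
  have hg4 : g ^ 4 * K.ι R0.aa * (g ^ 4)⁻¹ = K.ι R0.aa := by
    rw [show g ^ 4 * K.ι R0.aa * (g ^ 4)⁻¹ = g ^ 2 * (g ^ 2 * K.ι R0.aa * (g ^ 2)⁻¹) * (g ^ 2)⁻¹ by group, hg2,
      ← conj_mul, hg2, show g ^ 2 * K.z * (g ^ 2)⁻¹ = g * (g * K.z * g⁻¹) * g⁻¹ by rw [pow_two]; group, hzg, hzg, mul_assoc,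
      show K.z * K.z = 1 from K.frame.z_sq, mul_one]
  obtain ⟨k, m, hm, hkm⟩ := Nat.exists_eq_two_pow_mul_odd (n := orderOf g) (orderOf_pos g).ne'
  obtain ⟨l, rfl⟩ := hm
  have hpow : ∀ j : ℕ, (g ^ 4) ^ j * K.ι R0.aa * ((g ^ 4) ^ j)⁻¹ = K.ι R0.aa := by
    intro j
    induction j with
    | zero => simp
    | succ j ih =>
      rw [pow_succ', show g ^ 4 * (g ^ 4) ^ j * K.ι R0.aa * (g ^ 4 * (g ^ 4) ^ j)⁻¹ =
        g ^ 4 * ((g ^ 4) ^ j * K.ι R0.aa * ((g ^ 4) ^ j)⁻¹) * (g ^ 4)⁻¹ by group, ih, hg4]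
  set g' : G := g ^ (2 * l + 1) with hg'
  have hg'2 : g' ^ 2 * K.ι R0.aa * (g' ^ 2)⁻¹ = K.ι R0.aa * K.z := by
    rw [hg', ← pow_mul, show (2 * l + 1) * 2 = 2 + 4 * l by ring, pow_add, pow_mul]
    rw [show g ^ 2 * (g ^ 4) ^ l * K.ι R0.aa * (g ^ 2 * (g ^ 4) ^ l)⁻¹ =
      g ^ 2 * ((g ^ 4) ^ l * K.ι R0.aa * ((g ^ 4) ^ l)⁻¹) * (g ^ 2)⁻¹ by group, hpow, hg2]
  have hg'M : g' ∈ M := pow_mem hgM _
  have hg'p : IsPGroup 2 (zpowers g') := by
    refine IsPGroup.of_card (n := k) ?_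
    rw [Nat.card_zpowers, hg', orderOf_pow' g (show 2 * l + 1 ≠ 0 by omega), hkm,
      Nat.gcd_eq_right (Dvd.intro_left _ rfl), Nat.mul_div_cancel _ (by omega)]
  -- Sylow subgroups of the normaliser have order 64
  obtain ⟨T, hT⟩ := ((K.S.2.to_le (inf_le_left : K.B ≤ _)).comap_of_injective M.subtype
    M.subtype_injective).exists_le_sylow
  have hTB : (T : Subgroup M).map M.subtype = K.B := by
    refine (Subgroup.eq_of_le_of_card_ge (fun x hx => mem_map.2 ⟨⟨x, hBM hx⟩, hT hx, rfl⟩) ?_).symm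
    rw [K.card_B]
    by_contra hgt
    push Not at hgt
    have hle := K.card_two_group_le (T.2.map M.subtype)
    obtain ⟨i, hi⟩ := IsPGroup.iff_card.1 (T.2.map M.subtype)
    refine K.not_normalizes (T.2.map M.subtype) ?_
      (fun x hx => mem_map.2 ⟨⟨x, hBM (K.A_le_B hx)⟩, hT (K.A_le_B hx), rfl⟩) ?_
    · rw [hi] at hgt hle ⊢
      rcases lt_or_ge i 7 with h | h
      · have := Nat.pow_le_pow_right (show 2 > 0 by norm_num) (show i ≤ 6 by omega)
        omega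
      · exact le_trans (by norm_num) (Nat.pow_le_pow_right (show 2 > 0 by norm_num) h)
    · rintro _ ⟨p, -, rfl⟩ x hx
      exact (mem_normalizer_iff.1 p.2.2 x).1 hx
  obtain ⟨T', hT'⟩ := (hg'p.comap_of_injective M.subtype M.subtype_injective).exists_le_sylow
  obtain ⟨e, he⟩ := MulAction.exists_smul_eq M T' T
  have hb : (e : G) * g' * (e : G)⁻¹ ∈ K.B := by
    rw [← hTB]
    refine mem_map.2 ⟨e * ⟨g', hg'M⟩ * e⁻¹, ?_, rfl⟩
    rw [← he, Sylow.coe_subgroup_smul]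
    exact (Subgroup.mem_map).2 ⟨_, hT' (mem_zpowers g'), rfl⟩
  obtain ⟨b, hb'⟩ := K.exists_ι hb.1
  obtain ⟨a', ha'⟩ := K.exists_ι ((mem_normalizer_iff.1 e.2.2 _).1 haA).1
  have ha'B : R0.inB a' := K.mem_B.1 (ha' ▸ K.A_le_B ((mem_normalizer_iff.1 e.2.2 _).1 haA))
  have hcomm : g' ^ 2 * K.ι R0.aa = K.ι R0.aa * g' ^ 2 := by
    have h1 : K.ι (b * b) * K.ι a' = K.ι a' * K.ι (b * b) :=
      K.ι_comm.2 ((R0.comm_V a' _ ha'B (R0.sq_B b (K.mem_B.1 (hb' ▸ hb)))).symm)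
    rw [map_mul, hb', ha', conj_mul, conj_mul, conj_mul, ← pow_two] at h1
    exact mul_left_cancel (mul_right_cancel h1)
  rw [hcomm, mul_inv_cancel_right] at hg'2
  exact K.frame.z_ne (mul_eq_left.1 hg'2.symm)

end Fin

end Cfsg.Agent.J2Sylow.Cfg
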