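import Cfsg.Agent.Lib.J2Sylow.Kernel
import Cfsg.Agent.Lib.J2Sylow.Outer
import Cfsg.Agent.Lib.J2Sylow.AltModel
import Cfsg.Agent.Lib.J2Sylow.JTwo
import Cfsg.Agent.Lib.AltEightClosed.Main
import Cfsg.Agent.Lib.Goldschmidt.General.Final
import Cfsg.Agent.Lib.Goldschmidt.ThreeInv.Main

/-!
# The centraliser of the central involution is the normaliser of the extraspecial subgroup modulo its odd core

* `Cfg.closed` : the image of the extraspecial subgroup is normal modulo the odd core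
* `Cfg.exists_five_centralizer`
-/

set_option autoImplicit false
set_option maxRecDepth 100000
set_option linter.style.haveILetI false

open Subgroup

namespace Cfsg.Agent.J2Sylow

theorem two_transitive : (∀ i : Fin 5, ∃ σ : Equiv.Perm (Fin 5), Equiv.Perm.sign σ = 1 ∧ σ i = 4) ∧
    ∀ i j : Fin 5, i ≠ j → ∃ σ : Equiv.Perm (Fin 5), Equiv.Perm.sign σ = 1 ∧ σ i = 0 ∧ σ j = 1 := by
  decide +kernel

/-- A normal subgroup with a central subgroup of order two of odd index lies in that times the odd core. -/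
theorem le_central_sup_core {C D : Type*} [Group C] [Finite C] [Group D] (f : C →* D) (hf : Function.Surjective f)
    {zc : C} (hker : f.ker = zpowers zc) (hz2 : zc * zc = 1) (hz1 : zc ≠ 1) (hzc : ∀ x, x * zc = zc * x)
    {W : Subgroup D} [W.Normal] (hW : (Nat.card W).Coprime 2) :
    W.comap f ≤ zpowers zc ⊔ Cfsg.oddCore C := by
  haveI : Fact (Nat.Prime 2) := ⟨Nat.prime_two⟩
  set X : Subgroup C := W.comap f with hX
  have hzX : zpowers zc ≤ X := hker ▸ (f.ker_le_comap W)
  set Z : Subgroup X := (zpowers zc).subgroupOf X with hZ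
  have hZcard : Nat.card Z = 2 := by
    rw [Nat.card_congr (subgroupOfEquivOfLe hzX).toEquiv, Nat.card_zpowers,
      orderOf_eq_prime (x := zc) (by rw [pow_two]; exact hz2) hz1]
  haveI : Z.Normal := ⟨fun x hx g => by
    rw [hZ, mem_subgroupOf] at hx ⊢
    obtain ⟨k, hk⟩ := mem_zpowers_iff.1 hx
    rw [Subgroup.coe_mul, Subgroup.coe_mul, Subgroup.coe_inv, ← hk,
      (Commute.zpow_right (show Commute (g : C) zc from hzc g) k).eq, mul_inv_cancel_right]
    exact zpow_mem (mem_zpowers zc) k⟩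
  have hidx : Z.index = Nat.card W := by
    have h1 := Cores.card_map_mul_ker f X (f.ker_le_comap W)
    rw [hX, map_comap_eq_self_of_surjective hf, hker, Nat.card_zpowers,
      orderOf_eq_prime (x := zc) (by rw [pow_two]; exact hz2) hz1, ← hX] at h1
    have h2 := Z.index_mul_card
    rw [hZcard, ← h1] at h2
    omega
  obtain ⟨H, hH⟩ := Subgroup.exists_right_complement'_of_coprime (N := Z) (by rw [hZcard, hidx]; exact hW.symm)
  have hHcard : Nat.card H = Nat.card W := by rw [← hidx, hH.symm.index_eq_card]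
  have hHidx : H.index = 2 := by rw [hH.index_eq_card, hZcard]
  haveI hHn : H.Normal := Subgroup.normal_of_index_eq_two hHidx
  have hodd : Odd (Nat.card W) := Nat.coprime_two_right.1 hW
  have hHmem : ∀ {x : X}, Odd (orderOf x) → x ∈ H := by
    intro x hx
    obtain ⟨k, hk⟩ := hx
    have : (x ^ 2) ^ (k + 1) = x := by
      rw [← pow_mul, show 2 * (k + 1) = orderOf x + 1 by omega, pow_succ, pow_orderOf_eq_one, one_mul]
    rw [← this]
    exact pow_mem (Subgroup.sq_mem_of_index_two hHidx x) _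
  have hHodd : ∀ {x : X}, x ∈ H → Odd (orderOf x) := fun {x} hx =>
    Odd.of_dvd_nat hodd (hHcard ▸ Subgroup.orderOf_dvd_natCard _ hx)
  have hXn : X.Normal := Normal.comap inferInstance f
  have hO : (H.map X.subtype).Normal := ⟨fun m hm g => by
    obtain ⟨x, hx, rfl⟩ := hm
    refine ⟨⟨g * x * g⁻¹, hXn.conj_mem _ x.2 g⟩, hHmem ?_, rfl⟩
    rw [Subgroup.orderOf_mk, ← MulAut.conj_apply, (MulAut.conj g).orderOf_eq, Subgroup.orderOf_coe]
    exact hHodd hx⟩
  have hOle : H.map X.subtype ≤ Cfsg.oddCore C := Cores.le_pPrimeCore hO (by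
    rw [Subgroup.card_map_of_injective X.subtype_injective, hHcard]
    exact hW)
  intro x hx
  obtain ⟨e, he, o, ho, heo⟩ := Subgroup.mem_sup_of_normal_left.1
    (hH.sup_eq_top ▸ mem_top (⟨x, hx⟩ : X) : (⟨x, hx⟩ : X) ∈ Z ⊔ H)
  have : x = (e : C) * (o : C) := congrArg Subtype.val heo.symm
  rw [this]
  exact mul_mem (mem_sup_left (mem_subgroupOf.1 he)) (mem_sup_right (hOle ⟨o, ho, rfl⟩))

namespace Cfg

variable {G : Type*} [Group G] (K : Cfg G)

/-- The centraliser of the central involution. -/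
abbrev C : Subgroup G := centralizer ({K.z} : Set G)

theorem N_le_C : K.N ≤ K.C := inf_le_left

/-- The central involution in its centraliser. -/
def zC : K.C := ⟨K.z, mem_centralizer_singleton_iff.2 rfl⟩

theorem zC_comm (x : K.C) : x * K.zC = K.zC * x := Subtype.ext (mem_centralizer_singleton_iff.1 x.2)

theorem zC_sq : K.zC * K.zC = 1 := Subtype.ext K.z_sq

theorem zC_ne : K.zC ≠ 1 := fun h => K.frame.z_ne (congrArg Subtype.val h)

/-- The coordinates in the centraliser. -/
def jC : R0 →* K.C := K.ι.codRestrict _ fun r => K.S_le_centralizer (K.ι_mem r)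

theorem jC_injective : Function.Injective K.jC := fun _ _ h => K.inj (congrArg Subtype.val h)

theorem mem_zpowers_zC {x : K.C} : x ∈ zpowers K.zC ↔ x = 1 ∨ x = K.zC := by
  constructor
  · intro hx
    obtain ⟨k, rfl⟩ := mem_zpowers_iff.1 hx
    rcases Int.even_or_odd' k with ⟨m, rfl | rfl⟩
    · left; rw [zpow_mul, zpow_two, K.zC_sq, one_zpow]
    · right; rw [zpow_add, zpow_mul, zpow_two, K.zC_sq, one_zpow, one_mul, zpow_one]
  · rintro (rfl | rfl)
    · exact one_mem _
    · exact mem_zpowers _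

section Fin

universe v

variable {H : Type v} [Group H] [Finite H] (L : Cfg H)

/-- The image of the extraspecial subgroup is normal modulo the odd core. -/
theorem closed [(zpowers L.zC).Normal] (hr : L.pairs.range = alternatingGroup (Fin 5)) :
    ((L.Qs.subgroupOf L.C).map (QuotientGroup.mk' (zpowers L.zC)) ⊔
      Cfsg.oddCore (L.C ⧸ zpowers L.zC)).Normal := by
  haveI : Fact (Nat.Prime 2) := ⟨Nat.prime_two⟩
  classical
  set π := QuotientGroup.mk' (zpowers L.zC) with hπdef
  have hπs : Function.Surjective π := QuotientGroup.mk'_surjective _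
  have hπ1 : ∀ {x : L.C}, π x = 1 ↔ x = 1 ∨ x = L.zC := fun {x} => by
    rw [hπdef, QuotientGroup.mk'_apply, QuotientGroup.eq_one_iff, L.mem_zpowers_zC]
  have hπeq : ∀ {x y : L.C}, π x = π y → y = x ∨ y = x * L.zC := fun {x y} h => by
    rcases hπ1.1 (show π (x⁻¹ * y) = 1 by rw [map_mul, map_inv, h, inv_mul_cancel]) with e | e
    · exact Or.inl (inv_mul_eq_one.1 e).symm
    · exact Or.inr (inv_mul_eq_iff_eq_mul.1 e)
  have hπz : π L.zC = 1 := hπ1.2 (Or.inr rfl)
  let f : R0 →* L.C ⧸ zpowers L.zC := π.comp L.jC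
  have hfker : f.ker = R0.toAlt.ker := by
    ext r
    rw [R0.mem_ker_toAlt, MonoidHom.mem_ker, MonoidHom.comp_apply, hπ1]
    exact or_congr ⟨fun h => L.jC_injective (h.trans (map_one _).symm), fun h => by rw [h, map_one]⟩
      ⟨fun h => L.jC_injective h, fun h => h ▸ rfl⟩
  let SC : Sylow 2 L.C := L.S.subtype L.S_le_centralizer
  let Sb : Sylow 2 (L.C ⧸ zpowers L.zC) := SC.mapSurjective (f := π) hπs
  have hfrange : f.range = (Sb : Subgroup (L.C ⧸ zpowers L.zC)) := by
    show f.range = (SC : Subgroup L.C).map π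
    rw [MonoidHom.range_comp]
    refine congrArg _ (Subgroup.ext fun x => ?_)
    rw [show (SC : Subgroup L.C) = (L.S : Subgroup H).subgroupOf L.C from rfl, mem_subgroupOf]
    exact ⟨fun ⟨r, hr⟩ => hr ▸ L.ι_mem r, fun h => (L.exists_ι h).imp fun r hr => Subtype.ext hr⟩
  obtain ⟨P⟩ : Nonempty (Sylow 2 (alternatingGroup (Fin 8))) := inferInstance
  obtain ⟨eP⟩ := R0.exists_iso P
  have hS : Nonempty ((Sb : Subgroup (L.C ⧸ zpowers L.zC)) ≃* (P : Subgroup (alternatingGroup (Fin 8)))) :=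
    ⟨(MulEquiv.subgroupCongr hfrange.symm).trans ((QuotientGroup.quotientKerEquivRange f).symm.trans
      ((QuotientGroup.quotientMulEquivOfEq hfker).trans eP))⟩
  set A : Subgroup (L.C ⧸ zpowers L.zC) := (L.Qs.subgroupOf L.C).map π with hAdef
  have hQC : L.Qs ≤ L.C := L.Qs_le.trans L.S_le_centralizer
  have hmemA : ∀ {x}, x ∈ A ↔ ∃ r, R0.inQ r ∧ f r = x := by
    intro x
    constructor
    · rintro ⟨y, hy, rfl⟩
      obtain ⟨r, hr, e⟩ := L.exists_ι_Qs hy
      exact ⟨r, hr, congrArg π (Subtype.ext e : L.jC r = y)⟩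
    · rintro ⟨r, hr, rfl⟩
      exact ⟨L.jC r, L.mem_Qs.2 hr, rfl⟩
  have hA : Cfsg.IsElementaryAbelian 2 A := by
    have hc : ∀ r s : R0, R0.inQ r → R0.inQ s → r * s = s * r ∨ r * s = s * r * R0.z := by
      have : ∀ p q : Q0, (⟨p, false, false⟩ : R0) * ⟨q, false, false⟩ = ⟨q, false, false⟩ * ⟨p, false, false⟩ ∨
          (⟨p, false, false⟩ : R0) * ⟨q, false, false⟩ = ⟨q, false, false⟩ * ⟨p, false, false⟩ * R0.z := by
        decide +kernel
      rintro ⟨p, _, _⟩ ⟨q, _, _⟩ ⟨rfl, rfl⟩ ⟨rfl, rfl⟩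
      exact this p q
    have hsq : ∀ r : R0, R0.inQ r → r * r = 1 ∨ r * r = R0.z := by decide +kernel
    have hfz : f R0.z = 1 := hπz
    refine ⟨⟨⟨fun x y => ?_⟩⟩, fun x hx => ?_⟩
    · obtain ⟨r, hr, e⟩ := hmemA.1 x.2
      obtain ⟨s, hs, e'⟩ := hmemA.1 y.2
      refine Subtype.ext ?_
      show (x : L.C ⧸ zpowers L.zC) * y = y * x
      rw [← e, ← e', ← map_mul, ← map_mul]
      rcases hc r s hr hs with h | h <;> rw [h]
      rw [map_mul, hfz, mul_one]
    · obtain ⟨r, hr, rfl⟩ := hmemA.1 hx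
      rw [pow_two, ← map_mul]
      rcases hsq r hr with h | h <;> rw [h]
      · exact map_one _
      · exact hfz
  have hA16 : Nat.card A = 16 := by
    have hle : zpowers L.zC ≤ L.Qs.subgroupOf L.C := zpowers_le.2 L.z_mem_Qs
    have h := Cores.card_map_mul_ker π (L.Qs.subgroupOf L.C) (by rwa [hπdef, QuotientGroup.ker_mk'])
    rw [hπdef, QuotientGroup.ker_mk', Nat.card_zpowers,
      orderOf_eq_prime (x := L.zC) (by rw [pow_two]; exact L.zC_sq) L.zC_ne,
      Nat.card_congr (subgroupOfEquivOfLe hQC).toEquiv, L.card_Qs, ← hπdef] at h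
    rw [hAdef]
    omega
  -- the normaliser
  set N' : Subgroup (L.C ⧸ zpowers L.zC) := normalizer (A : Set (L.C ⧸ zpowers L.zC)) with hN'
  let g : L.N →* L.C ⧸ zpowers L.zC := π.comp (Subgroup.inclusion L.N_le_C)
  have hgrange : g.range = N' := by
    ext x
    obtain ⟨c, rfl⟩ := hπs x
    rw [hN', mem_normalizer_iff]
    have hiff : ∀ y : L.C, π y ∈ A ↔ (y : H) ∈ L.Qs := fun y => by
      rw [hAdef, ← mem_comap, comap_map_eq, QuotientGroup.ker_mk',
        sup_of_le_left (zpowers_le.2 (show L.zC ∈ L.Qs.subgroupOf L.C from L.z_mem_Qs)), mem_subgroupOf]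
    constructor
    · rintro ⟨n, hn⟩ y
      obtain ⟨y, rfl⟩ := hπs y
      rw [← hn]
      show π y ∈ A ↔ π _ * π y * (π _)⁻¹ ∈ A
      rw [← map_inv, ← map_mul, ← map_mul, hiff, hiff]
      exact mem_normalizer_iff.1 n.2.2 (y : H)
    · intro h
      refine ⟨⟨c, c.2, mem_normalizer_iff.2 fun y => ?_⟩, rfl⟩
      constructor
      · intro hy
        have := (h (π ⟨y, hQC hy⟩)).1 ((hiff _).2 hy)
        rw [← map_inv, ← map_mul, ← map_mul, hiff] at this
        exact this
      · intro hy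
        have hyC : y ∈ L.C := by
          have := mul_mem (mul_mem (inv_mem c.2) (hQC hy)) c.2
          rwa [show (c : H)⁻¹ * ((c : H) * y * (c : H)⁻¹) * c = y by group] at this
        refine (hiff ⟨y, hyC⟩).1 ((h _).2 ?_)
        rw [← map_inv, ← map_mul, ← map_mul, hiff]
        exact hy
  let g' : L.N →* N' := g.codRestrict _ fun n => hgrange ▸ ⟨n, rfl⟩
  have hg's : Function.Surjective g' := fun x => by
    obtain ⟨n, hn⟩ : (x : L.C ⧸ zpowers L.zC) ∈ g.range := by rw [hgrange]; exact x.2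
    exact ⟨n, Subtype.ext hn⟩
  let θ : L.N →* alternatingGroup (Fin 5) := L.pairs.codRestrict _ fun n => hr ▸ ⟨n, rfl⟩
  have hθker : g'.ker ≤ θ.ker := by
    intro n hn
    refine Subtype.ext (L.pairs_Qs ?_)
    rcases hπ1.1 (congrArg Subtype.val hn : g n = 1) with e | e
    · rw [show (n : H) = 1 from congrArg Subtype.val e]; exact one_mem _
    · rw [show (n : H) = L.z from congrArg Subtype.val e]; exact L.z_mem_Qs
  let ψ : N' →* alternatingGroup (Fin 5) := g'.liftOfSurjective hg's ⟨θ, hθker⟩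
  have hψ : ∀ n, ψ (g' n) = θ n := fun n => g'.liftOfRightInverse_comp_apply _ _ _ n
  have hψs : Function.Surjective ψ := fun σ => by
    obtain ⟨n, hn⟩ : (σ : Equiv.Perm (Fin 5)) ∈ L.pairs.range := hr.symm ▸ σ.2
    exact ⟨g' n, (hψ n).trans (Subtype.ext hn)⟩
  have hAN : A ≤ N' := le_normalizer
  haveI hOn : (Cfsg.oddCore N').Normal := Cores.pPrimeCore_normal 2 N'
  haveI hAn : (A.subgroupOf N').Normal := ⟨fun x hx y => mem_subgroupOf.2
    ((mem_normalizer_iff.1 y.2 (x : L.C ⧸ zpowers L.zC)).1 (mem_subgroupOf.1 hx))⟩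
  have hψA : ∀ {n : L.N}, (n : H) ∈ L.Qs → g' n ∈ A.subgroupOf N' := fun {n} hn =>
    mem_subgroupOf.2 ⟨⟨n, L.N_le_C n.2⟩, hn, rfl⟩
  have hker : ψ.ker = A.subgroupOf N' ⊔ Cfsg.oddCore N' := by
    refine le_antisymm ?_ (sup_le ?_ ?_)
    · intro x hx
      obtain ⟨n, rfl⟩ := hg's x
      rw [MonoidHom.mem_ker, hψ] at hx
      obtain ⟨e, he, o, ho, heo⟩ := L.ker_decomp (congrArg Subtype.val hx : L.pairs n = 1)
      have hn : n = ⟨e, L.S_le_N (L.Qs_le he)⟩ * o := Subtype.ext heo
      rw [hn, map_mul]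
      exact mul_mem (mem_sup_left (hψA he)) (mem_sup_right (Cores.map_pPrimeCore_le g' hg's 2 ⟨o, ho, rfl⟩))
    · intro x hx
      obtain ⟨n, rfl⟩ := hg's x
      obtain ⟨y, hy, e⟩ := mem_subgroupOf.1 hx
      rw [MonoidHom.mem_ker, hψ]
      refine Subtype.ext (L.pairs_Qs ?_)
      rcases hπeq e with h | h
      · rw [show (n : H) = (y : H) from congrArg Subtype.val h]; exact hy
      · rw [show (n : H) = (y : H) * L.z from congrArg Subtype.val h]; exact mul_mem hy L.z_mem_Qs
    · intro x hx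
      obtain ⟨n, rfl⟩ := hg's x
      rw [MonoidHom.mem_ker, hψ]
      refine Subtype.ext (Equiv.ext fun i => ?_)
      have hdis : Disjoint (A.subgroupOf N') (Cfsg.oddCore N') := disjoint_of_coprime_natCard (by
        rw [Nat.card_congr (subgroupOfEquivOfLe hAN).toEquiv, hA16]
        exact Nat.Coprime.pow_left 4 (Cores.coprime_card_pPrimeCore (G := N') 2).symm)
      have hc := (Subgroup.commute_of_normal_of_disjoint _ _ hAn hOn hdis _ _
        (hψA (n := ⟨L.u i, L.S_le_N (L.ι_mem _)⟩) (L.u_mem_Qs i)) hx).eq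
      rw [← map_mul, ← map_mul] at hc
      refine (L.pair_trans ?_ (L.pairs_spec n i)).symm
      rcases hπeq (congrArg Subtype.val hc) with h | h
      · left
        have e : (n : H) * L.u i = L.u i * n := congrArg Subtype.val h
        rw [e, mul_inv_cancel_right]
        rfl
      · right
        have e : (n : H) * L.u i = L.u i * n * L.z := congrArg Subtype.val h
        show (n : H) * L.u i * (n : H)⁻¹ = L.u i * L.z
        rw [e, mul_assoc (L.u i), L.N_comm_z n, ← mul_assoc, mul_inv_cancel_right]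
  let D : AltEightClosed.LData N' :=
    { A := A.subgroupOf N'
      O := Cfsg.oddCore N'
      ψ := ψ
      normA := hAn
      normO := hOn
      comm := ⟨⟨fun x y => Subtype.ext (Subtype.ext (by
        haveI := hA.1
        show ((x : N') : L.C ⧸ zpowers L.zC) * ((y : N') : L.C ⧸ zpowers L.zC) =
          ((y : N') : L.C ⧸ zpowers L.zC) * ((x : N') : L.C ⧸ zpowers L.zC)
        exact congrArg Subtype.val (mul_comm' (⟨_, mem_subgroupOf.1 x.2⟩ : A) ⟨_, mem_subgroupOf.1 y.2⟩)))⟩⟩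
      sq := fun a ha => Subtype.ext (hA.2 _ (mem_subgroupOf.1 ha))
      card := (Nat.card_congr (subgroupOfEquivOfLe hAN).toEquiv).trans hA16
      odd := Nat.coprime_two_right.1 (Cores.coprime_card_pPrimeCore 2)
      surj := hψs
      ker := hker }
  have hnc : ¬ D.A ≤ center N' := by
    intro hc
    obtain ⟨σ, hσ, hσ0⟩ : ∃ σ : Equiv.Perm (Fin 5), Equiv.Perm.sign σ = 1 ∧ σ 0 = 4 := two_transitive.1 0
    obtain ⟨n, hn⟩ : σ ∈ L.pairs.range := hr.symm ▸ Equiv.Perm.mem_alternatingGroup.2 hσ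
    have h := mem_center_iff.1 (hc (hψA (n := ⟨L.u 0, L.S_le_N (L.ι_mem _)⟩) (L.u_mem_Qs 0))) (g' n)
    rw [← map_mul, ← map_mul] at h
    have key : (n : H) * L.u 0 * (n : H)⁻¹ = L.u 0 ∨ (n : H) * L.u 0 * (n : H)⁻¹ = L.u 0 * L.z := by
      rcases hπeq (congrArg Subtype.val h) with e | e
      · left
        have e' : L.u 0 * (n : H) = n * L.u 0 := congrArg Subtype.val e
        rw [← e', mul_inv_cancel_right]
      · right
        have e' : L.u 0 * (n : H) = n * L.u 0 * L.z := congrArg Subtype.val e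
        rw [show (n : H) * L.u 0 = L.u 0 * n * L.z from by rw [e', mul_assoc, L.z_sq, mul_one],
          mul_assoc (L.u 0), L.N_comm_z n, ← mul_assoc, mul_inv_cancel_right]
    have := L.pair_trans key (L.pairs_spec n 0)
    rw [hn, hσ0] at this
    exact absurd this (by decide)
  -- three classes of involutions
  have hN'S : ∀ r : R0, f r ∈ N' := fun r => hgrange ▸ ⟨⟨L.ι r, L.S_le_N (L.ι_mem r)⟩, rfl⟩
  have hψf : ∀ r : R0, (ψ ⟨f r, hN'S r⟩ : Equiv.Perm (Fin 5)) = R0.perm r := fun r => by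
    rw [show (⟨f r, hN'S r⟩ : N') = g' ⟨L.ι r, L.S_le_N (L.ι_mem r)⟩ from Subtype.ext rfl, hψ]
    exact L.pairs_ι r
  let reps : Fin 3 → L.C ⧸ zpowers L.zC := ![f (R0.u 4), f (R0.u 0 * R0.u 1), f R0.aa]
  have hsq01 : R0.u 0 * R0.u 1 * (R0.u 0 * R0.u 1) = R0.z := R0.aa_facts.2.2.2.2.2.1
  have lift : ∀ x y : L.C, IsConj (π x) (π y) → ∃ c : L.C, c * x * c⁻¹ = y ∨ c * x * c⁻¹ = y * L.zC := by
    intro x y h
    obtain ⟨c, hc⟩ := isConj_iff.1 h
    obtain ⟨c, rfl⟩ := hπs c
    rw [← map_inv, ← map_mul, ← map_mul] at hc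
    rcases hπeq hc with e | e
    · exact ⟨c, Or.inl e.symm⟩
    · exact ⟨c, Or.inr (by rw [e, mul_assoc _ L.zC L.zC, L.zC_sq, mul_one])⟩
  have hnot : ∀ r : R0, r * r = 1 → ¬ IsConj (f r) (f (R0.u 0 * R0.u 1)) := by
    intro r hr2 h
    obtain ⟨c, hc⟩ := lift _ _ h
    have h1 : c * L.jC r * c⁻¹ * (c * L.jC r * c⁻¹) = 1 := by
      rw [conj_mul, ← map_mul, hr2, map_one, mul_one, mul_inv_cancel]
    have h2 : L.jC (R0.u 0 * R0.u 1) * L.jC (R0.u 0 * R0.u 1) = L.zC := by
      rw [← map_mul, hsq01]; rfl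
    rcases hc with e | e <;> rw [e] at h1
    · exact L.zC_ne (h2.symm.trans h1)
    · rw [mul_assoc, ← mul_assoc L.zC, ← L.zC_comm, mul_assoc _ L.zC L.zC, L.zC_sq, mul_one] at h1
      exact L.zC_ne (h2.symm.trans h1)
  have h40 : ¬ IsConj (f (R0.u 4)) (f R0.aa) := by
    intro h
    obtain ⟨c, hc⟩ := lift _ _ h.symm
    have hcz : (c : H) * L.z = L.z * c := mem_centralizer_singleton_iff.1 c.2
    rcases hc with e | e
    · exact (L.not_fused hcz).1 (congrArg Subtype.val e)
    · exact (L.not_fused hcz).2 (congrArg Subtype.val e)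
  have hne : ∀ i, reps i ≠ 1 := by
    have hf1 : ∀ r : R0, f r = 1 → r = 1 ∨ r = R0.z := fun r h => by
      rw [← R0.mem_ker_toAlt, ← hfker]; exact h
    intro i h
    fin_cases i
    · exact absurd (hf1 _ h) (by decide +kernel)
    · exact absurd (hf1 _ h) (by decide +kernel)
    · exact absurd (hf1 _ h) (by decide +kernel)
  have hrep2 : ∀ i, orderOf (reps i) = 2 := by
    intro i
    refine orderOf_eq_prime ?_ (hne i)
    fin_cases i
    · show f (R0.u 4) ^ 2 = 1
      rw [← map_pow, pow_two, (R0.u_basic.1 4).1, map_one]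
    · show f (R0.u 0 * R0.u 1) ^ 2 = 1
      rw [← map_pow, pow_two, hsq01]
      exact hπz
    · show f R0.aa ^ 2 = 1
      rw [← map_pow, pow_two, R0.outer_basic.1, map_one]
  have hclass : ∀ x : L.C ⧸ zpowers L.zC, orderOf x = 2 → ∃ i, IsConj (reps i) x := by
    intro x hx
    have hp : IsPGroup 2 (zpowers x) :=
      IsPGroup.of_card (n := 1) (p := 2) (by rw [Nat.card_zpowers, hx, pow_one])
    obtain ⟨Q, hQ⟩ := hp.exists_le_sylow
    obtain ⟨c, hc⟩ := MulAction.exists_smul_eq (L.C ⧸ zpowers L.zC) Q Sb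
    obtain ⟨r, hr'⟩ : c * x * c⁻¹ ∈ f.range := by
      rw [hfrange, ← hc, Sylow.coe_subgroup_smul]
      exact (Subgroup.mem_map).2 ⟨x, hQ (mem_zpowers _), rfl⟩
    suffices hs : ∃ i, IsConj (reps i) (f r) from hs.imp fun i hi => hi.trans (isConj_iff.2 ⟨c⁻¹, by rw [hr']; group⟩)
    have hfr1 : r ≠ 1 ∧ r ≠ R0.z := by
      have : f r ≠ 1 := fun h => by
        rw [hr', conj_eq_one_iff] at h
        rw [h, orderOf_one] at hx
        exact absurd hx (by norm_num)
      exact ⟨fun e => this (by rw [e, map_one]), fun e => this (by rw [e]; exact hπz)⟩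
    have hr2 : r * r = 1 ∨ r * r = R0.z := by
      have : f (r * r) = 1 := by
        rw [map_mul, hr', conj_mul, ← pow_two, ← hx, pow_orderOf_eq_one]
        group
      rw [← R0.mem_ker_toAlt, ← hfker]
      exact this
    by_cases hrQ : R0.inQ r
    · have key : ∀ (n : L.N) (x y : R0), (n : H) * L.ι x * (n : H)⁻¹ = L.ι y ∨
          (n : H) * L.ι x * (n : H)⁻¹ = L.ι y * L.z → IsConj (f x) (f y) := by
        intro n x y h
        refine isConj_iff.2 ⟨π ⟨n, L.N_le_C n.2⟩, ?_⟩
        show π _ * π (L.jC x) * (π _)⁻¹ = π (L.jC y)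
        rw [← map_inv, ← map_mul, ← map_mul]
        rcases h with e | e
        · exact congrArg π (Subtype.ext e)
        · rw [show (⟨n, L.N_le_C n.2⟩ : L.C) * L.jC x * (⟨n, L.N_le_C n.2⟩ : L.C)⁻¹ = L.jC y * L.zC from
            Subtype.ext e, map_mul, hπz, mul_one]
      rcases R0.inQ_cases r hrQ with e | e | ⟨i, e⟩ | ⟨i, j, hij, e⟩
      · exact absurd e hfr1.1
      · exact absurd e hfr1.2
      · refine ⟨0, IsConj.symm ?_⟩
        have hfu : f r = f (R0.u i) := by
          rcases e with e | e <;> rw [e]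
          rw [map_mul, show f R0.z = 1 from hπz, mul_one]
        rw [hfu]
        obtain ⟨σ, hσ, hσi⟩ := two_transitive.1 i
        obtain ⟨n, hn⟩ : σ ∈ L.pairs.range := hr.symm ▸ Equiv.Perm.mem_alternatingGroup.2 hσ
        have h := L.pairs_spec n i
        rw [hn, hσi] at h
        exact key n _ _ h
      · refine ⟨1, IsConj.symm ?_⟩
        obtain ⟨σ, hσ, hσi, hσj⟩ := two_transitive.2 i j hij
        obtain ⟨n, hn⟩ : σ ∈ L.pairs.range := hr.symm ▸ Equiv.Perm.mem_alternatingGroup.2 hσ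
        have h := L.pairs_spec n i
        have h' := L.pairs_spec n j
        rw [hn, hσi] at h
        rw [hn, hσj] at h'
        refine key n _ _ ?_
        rw [e, map_mul, map_mul, ← conj_mul]
        have hz : L.z * L.u 1 = L.u 1 * L.z := L.frame.z_u 1
        rcases h with h | h <;> rcases h' with h' | h' <;> rw [← show L.u i = L.ι (R0.u i) from rfl,
          ← show L.u j = L.ι (R0.u j) from rfl, h, h', ← show L.u 0 = L.ι (R0.u 0) from rfl,
          ← show L.u 1 = L.ι (R0.u 1) from rfl]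
        · exact Or.inl rfl
        · exact Or.inr (mul_assoc _ _ _).symm
        · exact Or.inr (by rw [mul_assoc, hz, ← mul_assoc])
        · exact Or.inl (by rw [mul_assoc, ← mul_assoc L.z, hz, mul_assoc (L.u 1), L.z_sq, mul_one])
    · refine ⟨2, ?_⟩
      have hs : (⟨f R0.aa, hN'S _⟩ : N') * ⟨f R0.aa, hN'S _⟩ = 1 := Subtype.ext (by
        show f R0.aa * f R0.aa = 1
        rw [← map_mul, R0.outer_basic.1, map_one])
      have ht : (⟨f r, hN'S r⟩ : N') * ⟨f r, hN'S r⟩ = 1 := Subtype.ext (by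
        show f r * f r = 1
        rw [← map_mul]
        rcases hr2 with e | e <;> rw [e]
        · exact map_one _
        · exact hπz)
      have hψ1 : ∀ y : R0, ¬ R0.inQ y → ψ ⟨f y, hN'S y⟩ ≠ 1 := fun y hy h =>
        hy (R0.perm_eq_one y.s y.t ((hψf y).symm.trans (congrArg Subtype.val h)))
      exact MonoidHom.map_isConj N'.subtype
        (D.outside_conj hnc hs (hψ1 _ R0.outer_basic.2.2.2.2.2.2.1) ht (hψ1 r hrQ))
  have h3 : Nat.card {c : ConjClasses (L.C ⧸ zpowers L.zC) // ∃ x ∈ c.carrier, orderOf x = 2} = 3 := by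
    let F : Fin 3 → {c : ConjClasses (L.C ⧸ zpowers L.zC) // ∃ x ∈ c.carrier, orderOf x = 2} := fun i =>
      ⟨ConjClasses.mk (reps i), reps i, ConjClasses.mem_carrier_mk, hrep2 i⟩
    have hF : Function.Bijective F := by
      refine ⟨fun i j h => ?_, fun c => ?_⟩
      · have hconj : IsConj (reps i) (reps j) := ConjClasses.mk_eq_mk_iff_isConj.1 (congrArg Subtype.val h)
        have e2 : R0.aa * R0.aa = 1 := R0.outer_basic.1
        have e4 : R0.u 4 * R0.u 4 = 1 := (R0.u_basic.1 4).1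
        fin_cases i <;> fin_cases j <;>
          first
            | rfl
            | exact absurd hconj (hnot _ e4)
            | exact absurd hconj.symm (hnot _ e4)
            | exact absurd hconj (hnot _ e2)
            | exact absurd hconj.symm (hnot _ e2)
            | exact absurd hconj h40
            | exact absurd hconj.symm h40
      · obtain ⟨c, x, hxc, hx2⟩ := c
        obtain ⟨i, hi⟩ := hclass x hx2
        refine ⟨i, Subtype.ext ?_⟩
        show ConjClasses.mk (reps i) = c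
        rw [ConjClasses.mk_eq_mk_iff_isConj.2 hi]
        exact ConjClasses.mem_carrier_iff_mk_eq.1 hxc
    rw [← Nat.card_congr (Equiv.ofBijective F hF), Nat.card_fin]
  have hNA : ∃ (_ : (A.subgroupOf N' ⊔ Cfsg.oddCore N').Normal),
      Nonempty (↥N' ⧸ (A.subgroupOf N' ⊔ Cfsg.oddCore N') ≃* ↥(alternatingGroup (Fin 5))) :=
    ⟨Subgroup.sup_normal _ _, ⟨(QuotientGroup.quotientMulEquivOfEq hker.symm).trans
      (QuotientGroup.quotientKerEquivOfSurjective ψ hψs)⟩⟩
  exact AltEightClosed.of_gold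
    (fun S A h1 h2 h3 => Goldschmidt.General.goldschmidt_of Goldschmidt.ThreeInv.threeInvTarget S A h1 h2 h3)
    Sb P hS h3 A hA hA16 N' hN' hNA

/-- Every element of the centraliser is an element of `N` times the odd core. -/
theorem exists_core_decomp [(Cfsg.oddCore L.C).Normal] (hno : TwoTimesPSL.NoIndexTwo H) :
    ∀ c : L.C, ∃ n : L.N, ∃ o ∈ Cfsg.oddCore L.C, c = ⟨n, L.N_le_C n.2⟩ * o := by
  haveI : Fact (Nat.Prime 2) := ⟨Nat.prime_two⟩
  have hr := L.range_pairs hno
  haveI : (Cfsg.oddCore L.N).Normal := Cores.pPrimeCore_normal 2 L.N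
  haveI : (zpowers L.zC).Normal := ⟨fun x hx g => by
    rcases L.mem_zpowers_zC.1 hx with rfl | rfl
    · simp
    · rw [mul_inv_eq_iff_eq_mul.2 (L.zC_comm g)]; exact mem_zpowers _⟩
  set π := QuotientGroup.mk' (zpowers L.zC) with hπdef
  have hπs : Function.Surjective π := QuotientGroup.mk'_surjective _
  haveI hX := L.closed hr
  haveI : (Cfsg.oddCore (L.C ⧸ zpowers L.zC)).Normal := Cores.pPrimeCore_normal 2 _
  set W : Subgroup L.C := (Cfsg.oddCore (L.C ⧸ zpowers L.zC)).comap π with hW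
  set X : Subgroup L.C := L.Qs.subgroupOf L.C ⊔ W with hXdef
  have hXeq : X = ((L.Qs.subgroupOf L.C).map π ⊔ Cfsg.oddCore (L.C ⧸ zpowers L.zC)).comap π := by
    rw [← map_comap_eq_self_of_surjective hπs (Cfsg.oddCore (L.C ⧸ zpowers L.zC)), ← Subgroup.map_sup,
      comap_map_eq, ← hW, sup_of_le_left ((π.ker_le_comap _).trans (le_sup_right (a := L.Qs.subgroupOf L.C)))]
  haveI hXn : X.Normal := hXeq ▸ Normal.comap hX π
  have hQX : L.Qs.subgroupOf L.C ≤ X := le_sup_left
  have hQ2 : IsPGroup 2 (L.Qs.subgroupOf L.C) := (L.S.2.to_le L.Qs_le).comap_of_injective _ L.C.subtype_injective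
  have hQC : L.Qs ≤ L.C := L.Qs_le.trans L.S_le_centralizer
  -- the extraspecial subgroup is a Sylow subgroup of `X`
  have hdvd : ¬ 2 ∣ ((L.Qs.subgroupOf L.C).subgroupOf X).index := by
    have hW2 := Cores.card_map_mul_ker π X (π.ker_le_comap _ |>.trans le_sup_right)
    have hmap : X.map π = (L.Qs.subgroupOf L.C).map π ⊔ Cfsg.oddCore (L.C ⧸ zpowers L.zC) := by
      rw [hXeq, map_comap_eq_self_of_surjective hπs]
    have hdiv := Cores.card_sup_dvd ((L.Qs.subgroupOf L.C).map π) (Cfsg.oddCore (L.C ⧸ zpowers L.zC))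
    have hQmap := Cores.card_map_mul_ker π (L.Qs.subgroupOf L.C) (by
      rw [hπdef, QuotientGroup.ker_mk']
      exact zpowers_le.2 L.z_mem_Qs)
    rw [hπdef, QuotientGroup.ker_mk', Nat.card_congr (subgroupOfEquivOfLe hQC).toEquiv, L.card_Qs, ← hπdef] at hQmap
    rw [hπdef, QuotientGroup.ker_mk', ← hπdef, hmap] at hW2
    have h1 := ((L.Qs.subgroupOf L.C).subgroupOf X).index_mul_card
    rw [Nat.card_congr (subgroupOfEquivOfLe hQX).toEquiv, Nat.card_congr (subgroupOfEquivOfLe hQC).toEquiv,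
      L.card_Qs, ← hW2] at h1
    intro h
    have hkey : 64 ∣ Nat.card ((L.Qs.subgroupOf L.C).map π) * Nat.card (Cfsg.oddCore (L.C ⧸ zpowers L.zC)) *
        Nat.card (zpowers L.zC) := by
      refine dvd_trans ?_ (mul_dvd_mul_right hdiv _)
      rw [← h1]
      exact mul_dvd_mul h (dvd_refl 32)
    rw [mul_assoc, mul_comm (Nat.card (Cfsg.oddCore (L.C ⧸ zpowers L.zC))), ← mul_assoc, hQmap,
      show 64 = 32 * 2 by norm_num] at hkey
    exact (Nat.Prime.coprime_iff_not_dvd Nat.prime_two).1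
      (Cores.coprime_card_pPrimeCore (G := L.C ⧸ zpowers L.zC) 2).symm (Nat.dvd_of_mul_dvd_mul_left (by norm_num) hkey)
  let P : Sylow 2 X := (hQ2.comap_of_injective _ X.subtype_injective).toSylow hdvd
  have hfr := Sylow.normalizer_sup_eq_top P
  intro c
  have hPmap : (P : Subgroup X).map X.subtype = L.Qs.subgroupOf L.C := by
    show ((L.Qs.subgroupOf L.C).subgroupOf X).map X.subtype = _
    rw [subgroupOf_map_subtype, inf_eq_left.2 hQX]
  have hc : c ∈ normalizer (((L.Qs.subgroupOf L.C) : Subgroup L.C) : Set L.C) ⊔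
      (zpowers L.zC ⊔ Cfsg.oddCore L.C) := by
    have hle : normalizer (((L.Qs.subgroupOf L.C) : Subgroup L.C) : Set L.C) ⊔ X ≤
        normalizer (((L.Qs.subgroupOf L.C) : Subgroup L.C) : Set L.C) ⊔ (zpowers L.zC ⊔ Cfsg.oddCore L.C) :=
      sup_le le_sup_left (sup_le (le_normalizer.trans le_sup_left) ((le_central_sup_core π hπs
        (by rw [hπdef, QuotientGroup.ker_mk']) L.zC_sq L.zC_ne L.zC_comm
        (Cores.coprime_card_pPrimeCore 2)).trans le_sup_right))
    refine hle ?_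
    have := hfr
    rw [hPmap] at this
    rw [this]
    exact mem_top c
  rw [← sup_assoc, sup_of_le_left ((zpowers_le.2 (show L.zC ∈ L.Qs.subgroupOf L.C from L.z_mem_Qs)).trans
    le_normalizer)] at hc
  obtain ⟨n, hn, o, ho, rfl⟩ := Subgroup.mem_sup_of_normal_right.1 hc
  refine ⟨⟨n, n.2, mem_normalizer_iff.2 fun y => ⟨fun hy => ?_, fun hy => ?_⟩⟩, o, ho, rfl⟩
  · exact mem_subgroupOf.1 ((mem_normalizer_iff.1 hn ⟨y, hQC hy⟩).1 (mem_subgroupOf.2 hy))
  · have hyC : y ∈ L.C := by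
      have := mul_mem (mul_mem (inv_mem n.2) (hQC hy)) n.2
      rwa [show (n : H)⁻¹ * ((n : H) * y * (n : H)⁻¹) * n = y by group] at this
    exact mem_subgroupOf.1 ((mem_normalizer_iff.1 hn ⟨y, hyC⟩).2 (mem_subgroupOf.2 hy))

/-- The centraliser modulo its odd core. -/
theorem exists_five_centralizer [(Cfsg.oddCore L.C).Normal] (hno : TwoTimesPSL.NoIndexTwo H) :
    Nonempty (Five (L.C ⧸ Cfsg.oddCore L.C)) := by
  haveI : Fact (Nat.Prime 2) := ⟨Nat.prime_two⟩
  have hr := L.range_pairs hno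
  haveI : (Cfsg.oddCore L.N).Normal := Cores.pPrimeCore_normal 2 L.N
  have hdecomp := L.exists_core_decomp hno
  let q : L.N →* L.C ⧸ Cfsg.oddCore L.C := (QuotientGroup.mk' _).comp (Subgroup.inclusion L.N_le_C)
  have hqs : Function.Surjective q := fun x => by
    obtain ⟨c, rfl⟩ := QuotientGroup.mk'_surjective _ x
    obtain ⟨n, o, ho, rfl⟩ := hdecomp c
    refine ⟨n, ?_⟩
    rw [map_mul, show QuotientGroup.mk' (Cfsg.oddCore L.C) o = 1 from (QuotientGroup.eq_one_iff o).2 ho, mul_one]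
    rfl
  have hqker : q.ker = Cfsg.oddCore L.N := by
    refine le_antisymm (Cores.le_pPrimeCore inferInstance ?_) ?_
    · have hle : q.ker.map (Subgroup.inclusion L.N_le_C) ≤ Cfsg.oddCore L.C := by
        rintro _ ⟨n, hn, rfl⟩
        exact (QuotientGroup.eq_one_iff _).1 hn
      have h := card_dvd_of_le hle
      rw [Subgroup.card_map_of_injective (Subgroup.inclusion_injective L.N_le_C)] at h
      exact Nat.Coprime.coprime_dvd_left h (Cores.coprime_card_pPrimeCore 2)
    · intro n hn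
      have h := Cores.map_pPrimeCore_le q hqs 2 ⟨n, hn, rfl⟩
      rw [Cores.pPrimeCore_quotient_self] at h
      exact h
  obtain ⟨D⟩ := L.exists_five hr
  exact ⟨D.map ((QuotientGroup.quotientMulEquivOfEq hqker.symm).trans
    (QuotientGroup.quotientKerEquivOfSurjective q hqs))⟩

end Fin

end Cfg

end Cfsg.Agent.J2Sylow
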