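import Cfsg.Agent.Lib.J2Sylow.Model
import Mathlib

/-!
# Five anticommuting involutions

* `Frame` : five anticommuting involutions with product one; `Frame.hom : Q0 →* H`
* `Frame.homR` : the homomorphism from `R0` given two further involutions
-/

set_option autoImplicit false
set_option maxRecDepth 100000

namespace Cfsg.Agent.J2Sylow

/-- First permutation of the four-group. -/
def vA : Equiv.Perm (Fin 5) := Equiv.swap 0 2 * Equiv.swap 1 3

/-- Second permutation of the four-group. -/
def vB : Equiv.Perm (Fin 5) := Equiv.swap 0 1 * Equiv.swap 2 3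

namespace Q0

/-- The central element. -/
def z : Q0 := ⟨false, false, false, false, true⟩

/-- The five involutions. -/
def u : Fin 5 → Q0 :=
  ![⟨true, false, false, false, false⟩, ⟨false, true, false, false, false⟩,
    ⟨false, false, true, false, false⟩, ⟨false, false, false, true, false⟩,
    ⟨true, true, true, true, false⟩]

/-- The normal word. -/
def word (a b c d e : Bool) : Q0 :=
  (bif a then u 0 else 1) * (bif b then u 1 else 1) * (bif c then u 2 else 1) * (bif d then u 3 else 1) *
    (bif e then z else 1)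

theorem eq_word : ∀ q : Q0, q = word q.v0 q.v1 q.v2 q.v3 q.e := by decide +kernel

theorem alpha_u : (∀ i, alpha (u i) = u (vA i)) ∧ (∀ i, beta (u i) = u (vB i)) ∧ alpha z = z ∧ beta z = z := by
  decide +kernel

theorem u_four : u 4 = (u 0 * u 1 * u 2 * u 3)⁻¹ := by decide +kernel

theorem commutator_cases : ∀ q : Q0, q ≠ 1 → q = z ∨ ∃ r, r * q * r⁻¹ * q⁻¹ = z := by decide +kernel

theorem natCard : Nat.card Q0 = 32 := by
  rw [Nat.card_eq_fintype_card]
  decide +kernel

/-- Induction on the five generators. -/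
theorem induction {P : Q0 → Prop} (h1 : P 1) (hu : ∀ i, P (u i)) (hz : P z)
    (hmul : ∀ q r, P q → P r → P (q * r)) (q : Q0) : P q := by
  rw [eq_word q, word]
  refine hmul _ _ (hmul _ _ (hmul _ _ (hmul _ _ ?_ ?_) ?_) ?_) ?_
  · cases q.v0 <;> first | exact h1 | exact hu _
  · cases q.v1 <;> first | exact h1 | exact hu _
  · cases q.v2 <;> first | exact h1 | exact hu _
  · cases q.v3 <;> first | exact h1 | exact hu _
  · cases q.e <;> first | exact h1 | exact hz

end Q0

/-- Five anticommuting involutions with product one. -/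
structure Frame (H : Type*) [Group H] where
  z : H
  u : Fin 5 → H
  u_sq : ∀ i, u i * u i = 1
  z_sq : z * z = 1
  z_ne : z ≠ 1
  z_u : ∀ i, z * u i = u i * z
  anti : ∀ i j, i ≠ j → u i * u j = u j * u i * z
  prod : u 0 * u 1 * u 2 * u 3 * u 4 = 1

namespace Frame

variable {H : Type*} [Group H] (F : Frame H)

theorem u_sq' (i : Fin 5) (x : H) : F.u i * (F.u i * x) = x := by rw [← mul_assoc, F.u_sq, one_mul]

theorem z_sq' (x : H) : F.z * (F.z * x) = x := by rw [← mul_assoc, F.z_sq, one_mul]

theorem z_u' (i : Fin 5) (x : H) : F.z * (F.u i * x) = F.u i * (F.z * x) := by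
  rw [← mul_assoc, F.z_u, mul_assoc]

theorem anti' (i j : Fin 5) (h : i ≠ j) (x : H) : F.u i * (F.u j * x) = F.u j * (F.u i * (F.z * x)) := by
  rw [← mul_assoc, F.anti i j h, mul_assoc, mul_assoc]

/-- The normal word. -/
def word (q : Q0) : H :=
  (bif q.v0 then F.u 0 else 1) * ((bif q.v1 then F.u 1 else 1) * ((bif q.v2 then F.u 2 else 1) *
    ((bif q.v3 then F.u 3 else 1) * (bif q.e then F.z else 1))))

theorem word_one : F.word 1 = 1 := by
  show (1 : H) * (1 * (1 * (1 * 1))) = 1
  simp

theorem word_mul_z : ∀ q : Q0, F.word (q * Q0.z) = F.word q * F.z := by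
  rintro ⟨a, b, c, d, e⟩
  cases a <;> cases b <;> cases c <;> cases d <;> cases e <;>
    simp [word, Q0.z, HMul.hMul, Mul.mul, Q0.mul] <;>
    simp [← show ∀ x y : H, x * y = Mul.mul x y from fun _ _ => rfl, mul_assoc, F.z_sq]

theorem word_mul_u : ∀ (k : Fin 4) (q : Q0), F.word (q * Q0.u k.castSucc) = F.word q * F.u k.castSucc := by
  intro k
  have h10 := F.anti 1 0 (by decide)
  have h20 := F.anti 2 0 (by decide)
  have h21 := F.anti 2 1 (by decide)
  have h30 := F.anti 3 0 (by decide)
  have h31 := F.anti 3 1 (by decide)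
  have h32 := F.anti 3 2 (by decide)
  have g10 := F.anti' 1 0 (by decide)
  have g20 := F.anti' 2 0 (by decide)
  have g21 := F.anti' 2 1 (by decide)
  have g30 := F.anti' 3 0 (by decide)
  have g31 := F.anti' 3 1 (by decide)
  have g32 := F.anti' 3 2 (by decide)
  rintro ⟨a, b, c, d, e⟩
  fin_cases k <;> cases a <;> cases b <;> cases c <;> cases d <;> cases e <;>
    simp [word, Q0.u, HMul.hMul, Mul.mul, Q0.mul] <;>
    simp [← show ∀ x y : H, x * y = Mul.mul x y from fun _ _ => rfl, mul_assoc, F.z_sq, F.u_sq,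
      F.u_sq', F.z_u, F.z_u', h10, h20, h21, h30, h31, h32, g10, g20, g21, g30, g31, g32]

theorem word_mul (q r : Q0) : F.word (q * r) = F.word q * F.word r := by
  have hu : ∀ (k : Fin 4) (v : Bool) (q : Q0),
      F.word (q * bif v then Q0.u k.castSucc else 1) = F.word q * bif v then F.u k.castSucc else 1 := by
    intro k v q
    cases v
    · simp
    · exact F.word_mul_u k q
  have hz : ∀ (v : Bool) (q : Q0), F.word (q * bif v then Q0.z else 1) = F.word q * bif v then F.z else 1 := by
    intro v q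
    cases v
    · simp
    · exact F.word_mul_z q
  conv_lhs => rw [Q0.eq_word r, Q0.word, ← mul_assoc, ← mul_assoc, ← mul_assoc, ← mul_assoc]
  rw [hz, show (3 : Fin 5) = (3 : Fin 4).castSucc from rfl, hu, show (2 : Fin 5) = (2 : Fin 4).castSucc from rfl,
    hu, show (1 : Fin 5) = (1 : Fin 4).castSucc from rfl, hu, show (0 : Fin 5) = (0 : Fin 4).castSucc from rfl,
    hu]
  simp only [word, mul_assoc]
  rfl

/-- The homomorphism from the coordinates. -/
def hom : Q0 →* H where
  toFun := F.word
  map_one' := F.word_one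
  map_mul' := F.word_mul

theorem hom_z : F.hom Q0.z = F.z := by
  show (1 : H) * (1 * (1 * (1 * F.z))) = F.z
  simp

theorem hom_u : ∀ i, F.hom (Q0.u i) = F.u i := by
  intro i
  fin_cases i
  · show F.u 0 * ((1 : H) * (1 * (1 * 1))) = F.u 0
    simp
  · show (1 : H) * (F.u 1 * (1 * (1 * 1))) = F.u 1
    simp
  · show (1 : H) * (1 * (F.u 2 * (1 * 1))) = F.u 2
    simp
  · show (1 : H) * (1 * (1 * (F.u 3 * 1))) = F.u 3
    simp
  · show F.u 0 * (F.u 1 * (F.u 2 * (F.u 3 * 1))) = F.u 4
    rw [mul_one, ← mul_assoc, ← mul_assoc]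
    have h := congrArg (· * F.u 4) F.prod
    simp only [one_mul] at h
    rw [mul_assoc _ (F.u 4) (F.u 4), F.u_sq, mul_one] at h
    exact h

theorem hom_injective : Function.Injective F.hom := by
  refine (injective_iff_map_eq_one _).2 fun q hq => ?_
  by_contra hne
  refine F.z_ne ?_
  rcases Q0.commutator_cases q hne with rfl | ⟨r, hr⟩
  · rwa [hom_z] at hq
  · rw [← F.hom_z, ← hr, map_mul, map_mul, map_mul, map_inv, map_inv, hq]
    simp

theorem u_mem_range (i : Fin 5) : F.u i ∈ F.hom.range := ⟨_, F.hom_u i⟩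

theorem z_mem_range : F.z ∈ F.hom.range := ⟨_, F.hom_z⟩

theorem natCard_range : Nat.card F.hom.range = 32 :=
  (Nat.card_congr (MonoidHom.ofInjective F.hom_injective).toEquiv).symm.trans Q0.natCard

theorem hom_alpha {a : H} (ha : a * a = 1) (hau : ∀ i, a * F.u i * a = F.u (vA i)) (q : Q0) :
    a * F.hom q * a = F.hom (Q0.alpha q) := by
  have hmul : ∀ x y : H, a * (x * y) * a = a * x * a * (a * y * a) := fun x y => by
    rw [show a * x * a * (a * y * a) = a * x * (a * a) * y * a by group, ha]
    group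
  have haz : a * F.z * a = F.z := by
    have h := congrArg (fun x => a * x * a) (F.anti 0 1 (by decide))
    simp only [hmul, hau] at h
    rw [F.anti (vA 0) (vA 1) (by decide)] at h
    exact (mul_left_cancel h).symm
  induction q using Q0.induction with
  | h1 => rw [map_one, mul_one, ha]; exact (map_one F.hom).symm
  | hu i => rw [F.hom_u, Q0.alpha_u.1, F.hom_u, hau]
  | hz => rw [F.hom_z, Q0.alpha_u.2.2.1, F.hom_z, haz]
  | hmul q r hq hr =>
    rw [map_mul, hmul, hq, hr, ← map_mul]
    exact congrArg F.hom (Q0.act_mul true false q r).symm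

theorem hom_beta {b : H} (hb : b * b = 1) (hbu : ∀ i, b * F.u i * b = F.u (vB i)) (q : Q0) :
    b * F.hom q * b = F.hom (Q0.beta q) := by
  have hmul : ∀ x y : H, b * (x * y) * b = b * x * b * (b * y * b) := fun x y => by
    rw [show b * x * b * (b * y * b) = b * x * (b * b) * y * b by group, hb]
    group
  have hbz : b * F.z * b = F.z := by
    have h := congrArg (fun x => b * x * b) (F.anti 0 1 (by decide))
    simp only [hmul, hbu] at h
    rw [F.anti (vB 0) (vB 1) (by decide)] at h
    exact (mul_left_cancel h).symm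
  induction q using Q0.induction with
  | h1 => rw [map_one, mul_one, hb]; exact (map_one F.hom).symm
  | hu i => rw [F.hom_u, Q0.alpha_u.2.1, F.hom_u, hbu]
  | hz => rw [F.hom_z, Q0.alpha_u.2.2.2, F.hom_z, hbz]
  | hmul q r hq hr =>
    rw [map_mul, hmul, hq, hr, ← map_mul]
    exact congrArg F.hom (Q0.act_mul false true q r).symm

/-- The homomorphism from the coordinate group of order 128. -/
theorem exists_homR {a b : H} (ha : a * a = 1) (hb : b * b = 1) (hab : a * b = b * a)
    (hau : ∀ i, a * F.u i * a = F.u (vA i)) (hbu : ∀ i, b * F.u i * b = F.u (vB i)) :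
    ∃ f : R0 →* H, (∀ i, f (R0.u i) = F.u i) ∧ f R0.z = F.z ∧ f R0.aa = a ∧ f R0.bb = b ∧
      ∀ q : Q0, f ⟨q, false, false⟩ = F.hom q := by
  let S : Bool → Bool → H := fun s t => (bif s then a else 1) * (bif t then b else 1)
  have hS : ∀ s t s' t', S (xor s s') (xor t t') = S s t * S s' t' := by
    have hab' : ∀ x : H, b * (a * x) = a * (b * x) := fun x => by rw [← mul_assoc, ← hab, mul_assoc]
    have ha' : ∀ x : H, a * (a * x) = x := fun x => by rw [← mul_assoc, ha, one_mul]
    have hb' : ∀ x : H, b * (b * x) = x := fun x => by rw [← mul_assoc, hb, one_mul]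
    intro s t s' t'
    cases s <;> cases t <;> cases s' <;> cases t' <;>
      simp [S, mul_assoc, ha, hb, ha', hab', ← hab]
  have hA := F.hom_alpha ha hau
  have hB := F.hom_beta hb hbu
  have hconj : ∀ (s t : Bool) (q : Q0), S s t * F.hom q = F.hom (Q0.act s t q) * S s t := by
    have h1 : ∀ q : Q0, a * F.hom q = F.hom (Q0.alpha q) * a := fun q => by
      rw [← hA, mul_assoc _ a a, ha, mul_one]
    have h2 : ∀ q : Q0, b * F.hom q = F.hom (Q0.beta q) * b := fun q => by
      rw [← hB, mul_assoc _ b b, hb, mul_one]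
    intro s t q
    cases s <;> cases t <;> simp [S, Q0.act, h1, h2]
    rw [mul_assoc, h2, ← mul_assoc, h1, mul_assoc]
  refine ⟨{ toFun := fun x => F.hom x.q * S x.s x.t, map_one' := ?_, map_mul' := ?_ }, ?_, ?_, ?_, ?_, ?_⟩
  · show F.hom 1 * (1 * 1) = 1
    simp
  · intro x y
    show F.hom (x.q * Q0.act x.s x.t y.q) * S (xor x.s y.s) (xor x.t y.t) =
      F.hom x.q * S x.s x.t * (F.hom y.q * S y.s y.t)
    rw [map_mul, hS, mul_assoc (F.hom x.q) (S x.s x.t), ← mul_assoc (S x.s x.t) (F.hom y.q), hconj]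
    simp only [mul_assoc]
  · intro i
    have e : R0.u i = ⟨Q0.u i, false, false⟩ := by revert i; decide
    rw [e]
    show F.hom (Q0.u i) * (1 * 1) = F.u i
    rw [F.hom_u, mul_one, mul_one]
  · show F.hom Q0.z * (1 * 1) = F.z
    rw [F.hom_z, mul_one, mul_one]
  · show F.hom 1 * (a * 1) = a
    rw [map_one, one_mul, mul_one]
  · show F.hom 1 * (1 * b) = b
    rw [map_one, one_mul, one_mul]
  · intro q
    show F.hom q * (1 * 1) = F.hom q
    rw [mul_one, mul_one]

end Frame

end Cfsg.Agent.J2Sylow
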