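import Cfsg.Agent.Lib.J2Sylow.Split

/-!
# Uniqueness of the extension

* `Five.nonempty_mulEquiv`
-/

set_option autoImplicit false
set_option maxRecDepth 100000
set_option linter.style.haveILetI false

open Subgroup

namespace Cfsg.Agent.J2Sylow

/-- The power of the standard five-cycle carrying `4` to the given point. -/
def tperm (i : Fin 5) : Equiv.Perm (Fin 5) := finRotate 5 ^ (i.val + 1)

theorem tperm_spec : ∀ i, tperm i 4 = i ∧ Equiv.Perm.sign (tperm i) = 1 := by decide +kernel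

theorem tperm_four : tperm 4 = 1 := by decide +kernel

theorem stab_squares : ∀ σ : Equiv.Perm (Fin 5), Equiv.Perm.sign σ = 1 → σ 4 = 4 →
    ∃ τ₁ τ₂ : Equiv.Perm (Fin 5), Equiv.Perm.sign τ₁ = 1 ∧ τ₁ 4 = 4 ∧ Equiv.Perm.sign τ₂ = 1 ∧ τ₂ 4 = 4 ∧
      σ = τ₁ * τ₁ * (τ₂ * τ₂) := by decide +kernel

namespace Five

variable {H : Type*} [Group H] (D : Five H)

theorem u_eq_iff {i j : Fin 5} (h : D.F.u i = D.F.u j ∨ D.F.u i = D.F.u j * D.F.z) : i = j := by
  by_contra hne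
  have h1 := D.F.anti i j hne
  rcases h with e | e <;> rw [e] at h1
  · exact D.F.z_ne (mul_eq_left.1 h1.symm)
  · simp only [mul_assoc, D.F.z_u, D.F.z_sq, D.F.u_sq'] at h1
    exact D.F.z_ne h1

/-- A split extension with equivariant involutions. -/
theorem exists_sect {H : Type*} [Group H] [Finite H] (D : Five H) : Nonempty (Sect H) := by
  obtain ⟨L, hLQ, hLs⟩ := D.exists_complement
  have hf : ∀ l : L, D.φ (l : H) ∈ alternatingGroup (Fin 5) := fun l => D.range ▸ ⟨_, rfl⟩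
  let f : L →* alternatingGroup (Fin 5) := (D.φ.comp L.subtype).codRestrict _ hf
  have hfb : Function.Bijective f := by
    refine ⟨(injective_iff_map_eq_one f).2 fun l hl => ?_, fun σ => ?_⟩
    · exact Subtype.ext (hLQ l l.2 (D.ker _ (congrArg Subtype.val hl)))
    · obtain ⟨l, hl, e⟩ := hLs σ.1 σ.2
      exact ⟨⟨l, hl⟩, Subtype.ext e⟩
  let sec : alternatingGroup (Fin 5) →* H := L.subtype.comp (MulEquiv.ofBijective f hfb).symm.toMonoidHom
  have hsec : ∀ σ, D.φ (sec σ) = σ.1 := fun σ =>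
    congrArg Subtype.val ((MulEquiv.ofBijective f hfb).apply_symm_apply σ)
  have hstab : ∀ σ : alternatingGroup (Fin 5), σ.1 4 = 4 →
      sec σ * D.F.u 4 * (sec σ)⁻¹ = D.F.u 4 := by
    intro σ hσ
    obtain ⟨τ₁, τ₂, h1, h1', h2, h2', e⟩ := stab_squares σ.1 (Equiv.Perm.mem_alternatingGroup.1 σ.2) hσ
    have hsq : ∀ τ : alternatingGroup (Fin 5), τ.1 4 = 4 →
        sec (τ * τ) * D.F.u 4 * (sec (τ * τ))⁻¹ = D.F.u 4 := by
      intro τ hτ
      rw [map_mul, show sec τ * sec τ * D.F.u 4 * (sec τ * sec τ)⁻¹ =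
        sec τ * (sec τ * D.F.u 4 * (sec τ)⁻¹) * (sec τ)⁻¹ by group]
      rcases D.act (sec τ) 4 with e | e <;> rw [hsec, hτ] at e <;> rw [e]
      · exact e
      · rw [← conj_mul, e, D.conj_z, mul_assoc, D.F.z_sq, mul_one]
    have e' : σ = (⟨τ₁, Equiv.Perm.mem_alternatingGroup.2 h1⟩ : alternatingGroup (Fin 5)) *
        ⟨τ₁, Equiv.Perm.mem_alternatingGroup.2 h1⟩ *
        (⟨τ₂, Equiv.Perm.mem_alternatingGroup.2 h2⟩ * ⟨τ₂, Equiv.Perm.mem_alternatingGroup.2 h2⟩) :=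
      Subtype.ext e
    rw [e', map_mul, mul_inv_rev,
      show ∀ a b x : H, a * b * x * (b⁻¹ * a⁻¹) = a * (b * x * b⁻¹) * a⁻¹ from fun a b x => by group,
      hsq _ h2', hsq _ h1']
  let t : Fin 5 → alternatingGroup (Fin 5) := fun i =>
    ⟨tperm i, Equiv.Perm.mem_alternatingGroup.2 (tperm_spec i).2⟩
  let U : Fin 5 → H := fun i => sec (t i) * D.F.u 4 * (sec (t i))⁻¹
  have hU : ∀ i, U i = D.F.u i ∨ U i = D.F.u i * D.F.z := by
    intro i
    have h := D.act (sec (t i)) 4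
    rwa [hsec, (tperm_spec i).1] at h
  have hUeq : ∀ σ i, sec σ * U i * (sec σ)⁻¹ = U (σ.1 i) := by
    intro σ i
    have hs : ((t (σ.1 i))⁻¹ * σ * t i).1 4 = 4 := by
      simp only [Subgroup.coe_mul, Subgroup.coe_inv, Equiv.Perm.mul_apply, t]
      rw [(tperm_spec i).1, Equiv.Perm.inv_eq_iff_eq, (tperm_spec _).1]
    have h := hstab _ hs
    simp only [map_mul, map_inv] at h
    calc sec σ * U i * (sec σ)⁻¹
        = sec (t (σ.1 i)) * ((sec (t (σ.1 i)))⁻¹ * sec σ * sec (t i) * D.F.u 4 *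
            ((sec (t (σ.1 i)))⁻¹ * sec σ * sec (t i))⁻¹) * (sec (t (σ.1 i)))⁻¹ := by simp only [U]; group
      _ = U (σ.1 i) := by rw [h]
  -- a global sign
  have hUz : ∀ i, D.F.z * U i = U i * D.F.z := fun i => (D.comm_z _).symm
  have hUsq : ∀ i, U i * U i = 1 := fun i => by simp only [U]; rw [conj_mul, D.F.u_sq]; group
  have hUanti : ∀ i j, i ≠ j → U i * U j = U j * U i * D.F.z := by
    intro i j hij
    have hz : ∀ i, D.F.u i * D.F.z = D.F.z * D.F.u i := fun i => (D.F.z_u i).symm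
    rcases hU i with e | e <;> rcases hU j with e' | e' <;> rw [e, e'] <;>
      simp only [mul_assoc, D.F.z_u, D.F.z_u', D.F.z_sq, mul_one, D.F.anti i j hij, D.F.anti' i j hij]
  obtain ⟨δ, hδ, hprod⟩ : ∃ δ, (δ = 1 ∨ δ = D.F.z) ∧ U 0 * U 1 * U 2 * U 3 * U 4 = δ := by
    refine ⟨_, ?_, rfl⟩
    rcases hU 0 with e0 | e0 <;> rcases hU 1 with e1 | e1 <;> rcases hU 2 with e2 | e2 <;>
      rcases hU 3 with e3 | e3 <;> rcases hU 4 with e4 | e4 <;> rw [e0, e1, e2, e3, e4] <;>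
      simp only [mul_assoc, D.F.z_u, D.F.z_u', D.F.z_sq, D.F.z_sq', mul_one] <;>
      (try simp only [← mul_assoc, D.F.prod, one_mul]) <;> simp
  have hδc : ∀ h : H, h * δ = δ * h := by
    intro h
    rcases hδ with rfl | rfl
    · simp
    · exact D.comm_z h
  have hδ2 : δ * δ = 1 := by
    rcases hδ with rfl | rfl
    · simp
    · exact D.F.z_sq
  have hδ' : ∀ x, δ * (δ * x) = x := fun x => by rw [← mul_assoc, hδ2, one_mul]
  let F' : Frame H :=
    { z := D.F.z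
      u := fun i => U i * δ
      u_sq := fun i => by rw [mul_assoc, ← mul_assoc δ, ← hδc, mul_assoc (U i) δ δ, hδ2, mul_one, hUsq]
      z_sq := D.F.z_sq
      z_ne := D.F.z_ne
      z_u := fun i => (D.comm_z _).symm
      anti := fun i j hij => by
        have hc : ∀ k, δ * U k = U k * δ := fun k => (hδc _).symm
        rw [show U i * δ * (U j * δ) = U i * (δ * U j) * δ by group,
          show U j * δ * (U i * δ) = U j * (δ * U i) * δ by group, hc, hc,
          show U i * (U j * δ) * δ = U i * U j * (δ * δ) by group,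
          show U j * (U i * δ) * δ = U j * U i * (δ * δ) by group, hδ2, mul_one, mul_one, hUanti i j hij]
      prod := by
        have h : U 0 * δ * (U 1 * δ) * (U 2 * δ) * (U 3 * δ) * (U 4 * δ) =
            U 0 * U 1 * U 2 * U 3 * U 4 * δ := by
          have hd : ∀ (k : Fin 5) (x : H), δ * (U k * x) = U k * (δ * x) := fun k x => by
            rw [← mul_assoc, ← hδc, mul_assoc]
          simp only [mul_assoc, hd, hδ', hδ2, mul_one]
        rw [h, hprod, hδ2] }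
  have hmem : ∀ i, F'.u i ∈ D.F.hom.range := fun i => by
    refine mul_mem ?_ ?_
    · rcases hU i with e | e <;> rw [e]
      · exact D.F.u_mem_range _
      · exact mul_mem (D.F.u_mem_range _) D.F.z_mem_range
    · rcases hδ with rfl | rfl
      · exact one_mem _
      · exact D.F.z_mem_range
  have hrange : F'.hom.range = D.F.hom.range := by
    haveI : Finite D.F.hom.range := inferInstance
    refine Subgroup.eq_of_le_of_card_ge ?_ (by rw [F'.natCard_range, D.F.natCard_range])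
    rintro _ ⟨q, rfl⟩
    induction q using Q0.induction with
    | h1 => rw [map_one]; exact one_mem _
    | hu i => rw [F'.hom_u]; exact hmem i
    | hz => rw [F'.hom_z]; exact D.F.z_mem_range
    | hmul q r h1 h2 => rw [map_mul]; exact mul_mem h1 h2
  refine ⟨⟨F', sec, fun σ i => ?_, fun σ hσ => ?_, fun h => ?_⟩⟩
  · show sec σ * (U i * δ) * (sec σ)⁻¹ = U (σ.1 i) * δ
    rw [← hUeq]
    simp only [mul_assoc, hδc (sec σ)⁻¹]
  · rw [hrange] at hσ
    exact Subtype.ext (by rw [← hsec σ, D.φ_range hσ]; rfl)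
  · refine ⟨⟨D.φ h, D.range ▸ ⟨h, rfl⟩⟩, h * (sec ⟨D.φ h, D.range ▸ ⟨h, rfl⟩⟩)⁻¹, ?_, by group⟩
    rw [hrange]
    exact D.ker _ (by rw [map_mul, map_inv, hsec, mul_inv_cancel])

end Five

namespace Sect

theorem bijective {H : Type*} [Group H] (S : Sect H) :
    Function.Bijective fun p : Q0 × alternatingGroup (Fin 5) => S.F.hom p.1 * S.sec p.2 := by
  refine ⟨fun p p' h => ?_, fun h => ?_⟩
  · have e : S.sec (p'.2 * p.2⁻¹) = (S.F.hom p'.1)⁻¹ * S.F.hom p.1 := by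
      simp only at h
      rw [map_mul, map_inv, eq_inv_mul_iff_mul_eq, ← mul_assoc, mul_inv_eq_iff_eq_mul, h]
    have h2 : p'.2 = p.2 := mul_inv_eq_one.1 (S.meet _ (e ▸ mul_mem (inv_mem ⟨_, rfl⟩) ⟨_, rfl⟩))
    simp only [← h2] at h
    exact Prod.ext (S.F.hom_injective (mul_right_cancel h)) h2.symm
  · obtain ⟨σ, q, ⟨q', rfl⟩, rfl⟩ := S.cover h
    exact ⟨(q', σ), rfl⟩

theorem conj_z {H : Type*} [Group H] (S : Sect H) (σ : alternatingGroup (Fin 5)) :
    S.sec σ * S.F.z * (S.sec σ)⁻¹ = S.F.z := by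
  have h := congrArg (fun x => S.sec σ * x * (S.sec σ)⁻¹) (S.F.anti 0 1 (by decide))
  simp only [← conj_mul, S.equiv] at h
  rw [S.F.anti _ _ (fun e => absurd ((σ : Equiv.Perm (Fin 5)).injective e) (by decide : (0 : Fin 5) ≠ 1))] at h
  exact (mul_left_cancel h).symm

theorem nonempty_mulEquiv {H₁ H₂ : Type*} [Group H₁] [Group H₂] (S₁ : Sect H₁) (S₂ : Sect H₂) :
    Nonempty (H₁ ≃* H₂) := by
  have conj : ∀ (σ : alternatingGroup (Fin 5)) (q : Q0), ∃ q', S₁.sec σ * S₁.F.hom q * (S₁.sec σ)⁻¹ = S₁.F.hom q' ∧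
      S₂.sec σ * S₂.F.hom q * (S₂.sec σ)⁻¹ = S₂.F.hom q' := by
    intro σ q
    induction q using Q0.induction with
    | h1 => exact ⟨1, by simp, by simp⟩
    | hu i =>
      exact ⟨Q0.u (σ.1 i), by rw [S₁.F.hom_u, S₁.F.hom_u, S₁.equiv],
        by rw [S₂.F.hom_u, S₂.F.hom_u, S₂.equiv]⟩
    | hz => exact ⟨Q0.z, by rw [S₁.F.hom_z, conj_z], by rw [S₂.F.hom_z, conj_z]⟩
    | hmul q r h1 h2 =>
      obtain ⟨a, a1, a2⟩ := h1
      obtain ⟨b, b1, b2⟩ := h2
      exact ⟨a * b, by rw [map_mul, map_mul, ← conj_mul, a1, b1], by rw [map_mul, map_mul, ← conj_mul, a2, b2]⟩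
  let e₁ := Equiv.ofBijective _ (bijective S₁)
  let e₂ := Equiv.ofBijective _ (bijective S₂)
  refine ⟨{ e₁.symm.trans e₂ with map_mul' := ?_ }⟩
  intro x y
  obtain ⟨⟨q, σ⟩, rfl⟩ := e₁.surjective x
  obtain ⟨⟨r, τ⟩, rfl⟩ := e₁.surjective y
  obtain ⟨r', r1, r2⟩ := conj σ r
  have key : e₁ (q, σ) * e₁ (r, τ) = e₁ (q * r', σ * τ) := by
    show S₁.F.hom q * S₁.sec σ * (S₁.F.hom r * S₁.sec τ) = S₁.F.hom (q * r') * S₁.sec (σ * τ)
    rw [map_mul, map_mul, ← r1]
    group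
  show e₂ (e₁.symm (e₁ (q, σ) * e₁ (r, τ))) = e₂ (e₁.symm (e₁ (q, σ))) * e₂ (e₁.symm (e₁ (r, τ)))
  rw [key, Equiv.symm_apply_apply, Equiv.symm_apply_apply, Equiv.symm_apply_apply]
  show S₂.F.hom (q * r') * S₂.sec (σ * τ) = S₂.F.hom q * S₂.sec σ * (S₂.F.hom r * S₂.sec τ)
  rw [map_mul, map_mul, ← r2]
  group

end Sect

/-- Two such extensions are isomorphic. -/
theorem Five.nonempty_mulEquiv {H₁ H₂ : Type*} [Group H₁] [Group H₂] [Finite H₁] [Finite H₂] (D₁ : Five H₁)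
    (D₂ : Five H₂) : Nonempty (H₁ ≃* H₂) :=
  Sect.nonempty_mulEquiv D₁.exists_sect.some D₂.exists_sect.some

end Cfsg.Agent.J2Sylow
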