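import Cfsg.Agent.Lib.J2Sylow.Auto
import Cfsg.Agent.Lib.Cores.Basic

/-!
# The kernel of the action on the pairs

* `Cfg.pairs_core` : the odd core of `N` fixes every pair
* `Cfg.ker_decomp` : the kernel is the extraspecial subgroup times the odd core
* `Cfg.exists_five` : `N` modulo its odd core satisfies `Five`
-/

set_option autoImplicit false
set_option maxRecDepth 100000
set_option linter.style.haveILetI false

open Subgroup

namespace Cfsg.Agent.J2Sylow.Cfg

variable {G : Type*} [Group G] (K : Cfg G)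

theorem u_mem_Qs (i : Fin 5) : K.u i ∈ K.Qs := K.frame.u_mem_range i

theorem z_mem_Qs : K.z ∈ K.Qs := K.frame.z_mem_range

theorem z_sq : K.z * K.z = 1 := K.frame.z_sq

/-- An element of the kernel is inner on the extraspecial subgroup up to an element centralising it. -/
theorem exists_inner {n : K.N} (hn : K.pairs n = 1) :
    ∃ q ∈ K.Qs, ∀ x ∈ K.Qs, q⁻¹ * (n : G) * x = x * (q⁻¹ * (n : G)) := by
  classical
  let e : Fin 5 → Bool := fun i => decide ((n : G) * K.u i * (n : G)⁻¹ ≠ K.u i)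
  have he : ∀ i, (n : G) * K.u i * (n : G)⁻¹ = K.ι (R0.u i * bif e i then R0.z else 1) := by
    intro i
    by_cases h : (n : G) * K.u i * (n : G)⁻¹ = K.u i
    · simp only [e, ne_eq, h, not_true, decide_false, cond_false, mul_one]
      rfl
    · simp only [e, ne_eq, h, not_false_iff, decide_true, cond_true]
      rw [map_mul]
      have h' := K.pairs_spec n i
      rw [hn] at h'
      exact h'.resolve_left h
  obtain ⟨q, hq, hqu⟩ := R0.inner_signs e (K.inj (by
    rw [map_mul, map_mul, map_mul, map_mul, ← he, ← he, ← he, ← he, ← he, conj_mul, conj_mul, conj_mul, conj_mul,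
      show K.u 0 * K.u 1 * K.u 2 * K.u 3 * K.u 4 = 1 from K.frame.prod, mul_one, mul_inv_cancel, map_one]))
  refine ⟨K.ι q, K.mem_Qs.2 hq, ?_⟩
  have hu : ∀ i, Commute ((K.ι q)⁻¹ * (n : G)) (K.u i) := fun i => by
    have e1 : K.ι q * K.u i * (K.ι q)⁻¹ = (n : G) * K.u i * (n : G)⁻¹ := by
      rw [he, ← hqu, u, map_mul, map_mul, map_inv]
    refine mul_inv_eq_iff_eq_mul.1 ?_
    rw [show (K.ι q)⁻¹ * (n : G) * K.u i * ((K.ι q)⁻¹ * (n : G))⁻¹ =
      (K.ι q)⁻¹ * ((n : G) * K.u i * (n : G)⁻¹) * K.ι q by group, ← e1]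
    group
  rintro _ ⟨x, rfl⟩
  induction x using Q0.induction with
  | h1 => rw [map_one, mul_one, one_mul]
  | hu i => rw [Frame.hom_u]; exact (hu i).eq
  | hz =>
    rw [Frame.hom_z]
    have := ((hu 0).mul_right (hu 1)).mul_right ((hu 0).mul_right (hu 1))
    rw [K.sq_u_mul 0 1 (by decide)] at this
    exact this.eq
  | hmul x y h1 h2 =>
    rw [map_mul]
    exact ((Commute.mul_right h1 h2 : Commute _ (K.frame.hom x * K.frame.hom y))).eq

theorem pairs_of_centralizes {n : K.N} (h : ∀ i, (n : G) * K.u i = K.u i * n) : K.pairs n = 1 :=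
  Equiv.ext fun i => (K.pair_trans (Or.inl (mul_inv_eq_iff_eq_mul.2 (h i))) (K.pairs_spec n i)).symm

section Fin

variable [Finite G]

theorem core_centralizes {n : K.N} (hn : n ∈ Cfsg.oddCore K.N) : ∀ x ∈ K.Qs, (n : G) * x = x * n := by
  haveI hO : (Cfsg.oddCore K.N).Normal := Cores.pPrimeCore_normal 2 K.N
  haveI hQ : (K.Qs.subgroupOf K.N).Normal := ⟨fun x hx g => mem_subgroupOf.2
    ((mem_normalizer_iff.1 g.2.2 (x : G)).1 (mem_subgroupOf.1 hx))⟩
  have hle : K.Qs ≤ K.N := K.Qs_le.trans K.S_le_N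
  have hdis : Disjoint (Cfsg.oddCore K.N) (K.Qs.subgroupOf K.N) := disjoint_of_coprime_natCard (by
    rw [Nat.card_congr (subgroupOfEquivOfLe hle).toEquiv, K.card_Qs]
    exact Nat.Coprime.pow_right 5 (Cores.coprime_card_pPrimeCore (G := K.N) 2))
  intro x hx
  exact congrArg Subtype.val
    ((Subgroup.commute_of_normal_of_disjoint _ _ hO hQ hdis n ⟨x, hle hx⟩ hn (mem_subgroupOf.2 hx)).eq)

theorem pairs_core {n : K.N} (hn : n ∈ Cfsg.oddCore K.N) : K.pairs n = 1 :=
  K.pairs_of_centralizes fun i => K.core_centralizes hn _ (K.u_mem_Qs i)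

/-- Elements centralising the extraspecial subgroup lie in its centre times the odd core. -/
theorem centralizing_decomp {n : K.N} (hn : ∀ x ∈ K.Qs, (n : G) * x = x * n) :
    ∃ e ∈ K.Qs, ∃ o ∈ Cfsg.oddCore K.N, (n : G) = e * o := by
  haveI : Fact (Nat.Prime 2) := ⟨Nat.prime_two⟩
  set X : Subgroup K.N := (centralizer (K.Qs : Set G)).subgroupOf K.N with hX
  have hXmem : ∀ m : K.N, m ∈ X ↔ ∀ x ∈ K.Qs, (m : G) * x = x * m := fun m => by
    rw [hX, mem_subgroupOf, mem_centralizer_iff]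
    exact ⟨fun h x hx => (h x hx).symm, fun h x hx => (h x hx).symm⟩
  haveI hXn : X.Normal := ⟨fun m hm g => (hXmem _).2 fun x hx => by
    have hy : (g : G)⁻¹ * x * g ∈ K.Qs := by
      have := (mem_normalizer_iff.1 g.2.2 ((g : G)⁻¹ * x * g)).2 (by
        rwa [show (g : G) * ((g : G)⁻¹ * x * g) * (g : G)⁻¹ = x by group])
      exact this
    have h := (hXmem m).1 hm _ hy
    simp only [Subgroup.coe_mul, Subgroup.coe_inv]
    calc (g : G) * m * (g : G)⁻¹ * x = g * (m * ((g : G)⁻¹ * x * g)) * (g : G)⁻¹ := by group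
      _ = g * (((g : G)⁻¹ * x * g) * m) * (g : G)⁻¹ := by rw [h]
      _ = x * (g * m * (g : G)⁻¹) := by group⟩
  let zX : X := ⟨⟨K.z, K.S_le_N (K.Qs_le K.z_mem_Qs)⟩, (hXmem _).2 fun x hx =>
    (K.z_comm (K.Qs_le hx)).symm⟩
  have hzX : zX * zX = 1 := Subtype.ext (Subtype.ext K.z_sq)
  have hzX1 : zX ≠ 1 := fun e => K.frame.z_ne (congrArg (fun m : X => ((m : K.N) : G)) e)
  set Z : Subgroup X := zpowers zX with hZ
  have hZcard : Nat.card Z = 2 := by
    rw [hZ, Nat.card_zpowers, orderOf_eq_prime (by rw [pow_two]; exact hzX) hzX1]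
  haveI : Z.Normal := ⟨fun x hx g => by
    obtain ⟨k, rfl⟩ := mem_zpowers_iff.1 hx
    have : g * zX * g⁻¹ = zX := Subtype.ext (Subtype.ext (K.N_conj_z (g : K.N)))
    rw [← conj_zpow, this]
    exact zpow_mem (mem_zpowers _) k⟩
  -- the index of the centre is odd
  have hodd : ¬ 2 ∣ Z.index := by
    intro h
    have h4 : 2 ^ 2 ∣ Nat.card X := by
      rw [← Z.index_mul_card, hZcard, pow_two]
      exact mul_dvd_mul_right h 2
    obtain ⟨P, hP, hZP⟩ := Sylow.exists_subgroup_card_pow_prime_le 2 h4 (H := Z)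
      (show Nat.card Z = 2 ^ 1 by rw [hZcard, pow_one]) one_le_two
    set P' : Subgroup G := (P.map X.subtype).map K.N.subtype with hP'
    have hP'card : Nat.card P' = 4 := by
      rw [hP', Subgroup.card_map_of_injective K.N.subtype_injective,
        Subgroup.card_map_of_injective X.subtype_injective, hP]
      norm_num
    have hP'2 : IsPGroup 2 P' := IsPGroup.of_card (n := 2) hP'card
    obtain ⟨c, hc, hcS⟩ := K.conj_into K.S_le_N (map_subtype_le _) hP'2
    have hsub : P'.map (MulAut.conj c).toMonoidHom ≤ (zpowers K.z : Subgroup G) := by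
      rintro _ ⟨x, hx, rfl⟩
      show c * x * c⁻¹ ∈ zpowers K.z
      have hxP := hx
      obtain ⟨m, ⟨m', -, rfl⟩, rfl⟩ := hx
      obtain ⟨r, hr⟩ := K.exists_ι (hcS _ hxP)
      have hcm : (⟨c, hc⟩ : K.N) * (m' : K.N) * (⟨c, hc⟩ : K.N)⁻¹ ∈ X := hXn.conj_mem _ m'.2 _
      have hcen := (hXmem _).1 hcm
      simp only [Subgroup.coe_mul, Subgroup.coe_inv, Subgroup.coe_subtype] at hcen hr ⊢
      rw [← hr]
      rw [← hr] at hcen
      have hk : K.pairs ⟨K.ι r, K.S_le_N (K.ι_mem r)⟩ = 1 :=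
        K.pairs_of_centralizes fun i => hcen _ (K.u_mem_Qs i)
      have hrQ : R0.inQ r := K.mem_Qs.1 (K.mem_S_ker (n := ⟨K.ι r, K.S_le_N (K.ι_mem r)⟩) (K.ι_mem r) hk)
      rcases R0.cent_gens r hrQ (fun i => K.ι_comm.1 (hcen _ (K.u_mem_Qs i))) with rfl | rfl
      · rw [map_one]; exact one_mem _
      · exact mem_zpowers _
    have h := Nat.le_of_dvd Nat.card_pos (card_dvd_of_le hsub)
    have hcm : Nat.card (P'.map (MulAut.conj c).toMonoidHom) = Nat.card P' :=
      Subgroup.card_map_of_injective (MulAut.conj c).injective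
    rw [hcm, hP'card, Nat.card_zpowers, orderOf_eq_prime (x := K.z) (by rw [pow_two]; exact K.z_sq) K.frame.z_ne] at h
    omega
  obtain ⟨H, hH⟩ := Subgroup.exists_right_complement'_of_coprime (N := Z) (by
    rw [hZcard]; exact Nat.coprime_two_left.2 (Nat.not_even_iff_odd.1 fun he => hodd he.two_dvd))
  have hHcard : Nat.card H = Z.index := hH.symm.index_eq_card.symm
  have hHidx : H.index = 2 := by rw [hH.index_eq_card, hZcard]
  haveI hHn : H.Normal := Subgroup.normal_of_index_eq_two hHidx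
  have hHmem : ∀ {x : X}, Odd (orderOf x) → x ∈ H := by
    intro x hx
    obtain ⟨k, hk⟩ := hx
    have h2 : x ^ 2 ∈ H := Subgroup.sq_mem_of_index_two hHidx x
    have : (x ^ 2) ^ (k + 1) = x := by
      rw [← pow_mul, show 2 * (k + 1) = orderOf x + 1 by omega, pow_succ, pow_orderOf_eq_one, one_mul]
    rw [← this]
    exact pow_mem h2 _
  have hHodd : ∀ {x : X}, x ∈ H → Odd (orderOf x) := fun {x} hx => by
    refine (Nat.odd_iff.2 (Nat.two_dvd_ne_zero.1 fun h => hodd (h.trans ?_)))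
    rw [← hHcard]
    exact Subgroup.orderOf_dvd_natCard _ hx
  set O1 : Subgroup K.N := H.map X.subtype with hO1
  have hO1n : O1.Normal := ⟨fun m hm g => by
    obtain ⟨x, hx, rfl⟩ := hm
    refine ⟨⟨g * x * g⁻¹, hXn.conj_mem _ x.2 g⟩, hHmem ?_, rfl⟩
    rw [Subgroup.orderOf_mk, ← MulAut.conj_apply, (MulAut.conj g).orderOf_eq]
    show Odd (orderOf ((x : X) : K.N))
    rw [Subgroup.orderOf_coe]
    exact hHodd hx⟩
  have hO1le : O1 ≤ Cfsg.oddCore K.N := by
    refine Cores.le_pPrimeCore hO1n ?_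
    rw [hO1, Subgroup.card_map_of_injective X.subtype_injective, hHcard]
    exact ((Nat.Prime.coprime_iff_not_dvd Nat.prime_two).2 hodd).symm
  obtain ⟨e, he, o, ho, heo⟩ := Subgroup.mem_sup_of_normal_left.1
    (hH.sup_eq_top ▸ mem_top (⟨n, (hXmem n).2 hn⟩ : X) : (⟨n, (hXmem n).2 hn⟩ : X) ∈ Z ⊔ H)
  refine ⟨((e : K.N) : G), ?_, o, hO1le ⟨o, ho, rfl⟩, congrArg (fun m : X => ((m : K.N) : G)) heo.symm⟩
  obtain ⟨k, rfl⟩ := mem_zpowers_iff.1 he
  simp only [SubgroupClass.coe_zpow]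
  exact zpow_mem K.z_mem_Qs k

theorem ker_decomp {n : K.N} (hn : K.pairs n = 1) :
    ∃ e ∈ K.Qs, ∃ o ∈ Cfsg.oddCore K.N, (n : G) = e * o := by
  obtain ⟨q, hq, hqc⟩ := K.exists_inner hn
  set q' : K.N := ⟨q, K.S_le_N (K.Qs_le hq)⟩ with hq'
  obtain ⟨e, he, o, ho, heo⟩ := K.centralizing_decomp (n := q'⁻¹ * n) hqc
  refine ⟨q * e, mul_mem hq he, o, ho, ?_⟩
  rw [Subgroup.coe_mul, Subgroup.coe_inv, inv_mul_eq_iff_eq_mul] at heo
  rw [heo, mul_assoc]

/-- Above the four-group every element is an element of the Sylow subgroup times the core. -/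
theorem fours_decomp {n : K.N} (hn : K.pairs n ∈ fours) :
    ∃ r : R0, ∃ o ∈ Cfsg.oddCore K.N, n = ⟨K.ι r, K.S_le_N (K.ι_mem r)⟩ * o := by
  obtain ⟨r, hr⟩ : ∃ r : R0, R0.perm r = K.pairs n := by
    rcases mem_fours.1 hn with e | e | e | e <;> rw [e]
    · exact ⟨1, by simp [R0.perm, show (1 : R0).s = false from rfl, show (1 : R0).t = false from rfl]⟩
    · exact ⟨R0.aa, R0.perm_aa.1⟩
    · exact ⟨R0.bb, R0.perm_aa.2⟩
    · exact ⟨⟨1, true, true⟩, by simp [R0.perm]⟩
  have hk : K.pairs (⟨K.ι r, K.S_le_N (K.ι_mem r)⟩⁻¹ * n) = 1 := by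
    rw [map_mul, map_inv, K.pairs_ι, hr, inv_mul_cancel]
  obtain ⟨e, he, o, ho, heo⟩ := K.ker_decomp hk
  obtain ⟨r', -, rfl⟩ := K.exists_ι_Qs he
  refine ⟨r * r', o, ho, Subtype.ext ?_⟩
  rw [Subgroup.coe_mul, Subgroup.coe_inv, inv_mul_eq_iff_eq_mul] at heo
  show (n : G) = K.ι (r * r') * (o : G)
  rw [heo, map_mul, mul_assoc]

theorem ι_core {r : R0} (h : (⟨K.ι r, K.S_le_N (K.ι_mem r)⟩ : K.N) ∈ Cfsg.oddCore K.N) : r = 1 := by
  have h1 : orderOf (⟨K.ι r, K.S_le_N (K.ι_mem r)⟩ : K.N) ∣ Nat.card (Cfsg.oddCore K.N) :=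
    Subgroup.orderOf_dvd_natCard _ h
  rw [← Subgroup.orderOf_coe] at h1
  have h2 : orderOf (K.ι r) ∣ 2 ^ 7 := by
    have := Subgroup.orderOf_dvd_natCard _ (K.ι_mem r)
    rwa [K.card_S] at this
  have h3 := Nat.eq_one_of_dvd_coprimes (Nat.Coprime.pow_left 7 (Cores.coprime_card_pPrimeCore (G := K.N) 2).symm) h2 h1
  exact K.inj ((orderOf_eq_one_iff.1 h3).trans (map_one _).symm)

/-- The normaliser modulo its odd core. -/
theorem exists_five [(Cfsg.oddCore K.N).Normal] (hr : K.pairs.range = alternatingGroup (Fin 5)) :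
    Nonempty (Five (K.N ⧸ Cfsg.oddCore K.N)) := by
  set O := Cfsg.oddCore K.N
  let π : K.N →* K.N ⧸ O := QuotientGroup.mk' O
  have hπ : Function.Surjective π := QuotientGroup.mk'_surjective O
  let j : R0 →* K.N := K.ι.codRestrict _ fun r => K.S_le_N (K.ι_mem r)
  let f : R0 →* K.N ⧸ O := π.comp j
  have hf : Function.Injective f := (injective_iff_map_eq_one f).2 fun r h =>
    K.ι_core ((QuotientGroup.eq_one_iff (j r)).1 h)
  let F : Frame (K.N ⧸ O) :=
    { z := f R0.z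
      u := fun i => f (R0.u i)
      u_sq := fun i => by rw [← map_mul, (R0.u_basic.1 i).1, map_one]
      z_sq := by rw [← map_mul, R0.u_basic.2.2.1, map_one]
      z_ne := fun h => R0.u_basic.2.2.2 (hf (h.trans (map_one f).symm))
      z_u := fun i => by rw [← map_mul, ← map_mul, R0.z_comm]
      anti := fun i j h => by rw [← map_mul, ← map_mul, ← map_mul, (R0.u_basic.2.1 i j h).1]
      prod := by rw [← map_mul, ← map_mul, ← map_mul, ← map_mul, R0.u_prod.1, map_one] }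
  let φ : K.N ⧸ O →* Equiv.Perm (Fin 5) := QuotientGroup.lift O K.pairs fun n hn => K.pairs_core hn
  have hφ : ∀ n, φ (π n) = K.pairs n := fun n => rfl
  have hFhom : ∀ q, F.hom q = f ⟨q, false, false⟩ := by
    intro q
    induction q using Q0.induction with
    | h1 => rw [map_one, show (⟨1, false, false⟩ : R0) = 1 from rfl, map_one]
    | hu i =>
      rw [Frame.hom_u]
      have : ∀ i, (⟨Q0.u i, false, false⟩ : R0) = R0.u i := by decide +kernel
      rw [this]
    | hz => rw [Frame.hom_z]; rfl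
    | hmul q r h1 h2 => rw [map_mul, h1, h2, ← map_mul]; rfl
  refine ⟨{ F := F, φ := φ, act := ?_, ker := ?_, range := ?_, lift_sq := ?_,
            a := f R0.aa, b := f R0.bb, a_sq := ?_, b_sq := ?_, ab := ?_, φa := ?_, φb := ?_ }⟩
  · intro h i
    obtain ⟨n, rfl⟩ := hπ h
    rw [hφ]
    rcases K.pairs_spec n i with e | e
    · left
      show π n * π (j (R0.u i)) * (π n)⁻¹ = π (j (R0.u (K.pairs n i)))
      rw [← map_inv, ← map_mul, ← map_mul]
      exact congrArg π (Subtype.ext e)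
    · right
      show π n * π (j (R0.u i)) * (π n)⁻¹ = π (j (R0.u (K.pairs n i))) * π (j R0.z)
      rw [← map_inv, ← map_mul, ← map_mul, ← map_mul]
      exact congrArg π (Subtype.ext e)
  · intro h hh
    obtain ⟨n, rfl⟩ := hπ h
    obtain ⟨e, he, o, ho, heo⟩ := K.ker_decomp hh
    obtain ⟨r, hr', rfl⟩ := K.exists_ι_Qs he
    refine ⟨r.q, ?_⟩
    have hn : n = j r * o := Subtype.ext heo
    rw [hFhom, hn, map_mul, show π o = 1 from (QuotientGroup.eq_one_iff o).2 ho, mul_one]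
    obtain ⟨q, s, t⟩ := r
    obtain ⟨rfl, rfl⟩ := hr'
    rfl
  · rw [← hr]
    refine le_antisymm ?_ ?_
    · rintro _ ⟨h, rfl⟩
      obtain ⟨n, rfl⟩ := hπ h
      exact ⟨n, rfl⟩
    · rintro _ ⟨n, rfl⟩
      exact ⟨π n, rfl⟩
  · intro h h4 h1 hz
    obtain ⟨n, rfl⟩ := hπ h
    obtain ⟨r, o, ho, rfl⟩ := K.fours_decomp h4
    rw [map_mul, show π o = 1 from (QuotientGroup.eq_one_iff o).2 ho, mul_one] at hz h1
    have hrz : r * r = R0.z := hf (by rw [map_mul]; exact hz)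
    have hq : ¬ R0.inQ r := fun hq => h1 (by
      rw [hφ]
      exact K.pairs_Qs (K.mem_Qs.2 hq))
    exact R0.u_basic.2.2.2 (hrz.symm.trans (R0.outside r hq (Or.inr hrz)).1)
  · rw [← map_mul, R0.outer_basic.1, map_one]
  · rw [← map_mul, R0.outer_basic.2.1, map_one]
  · rw [← map_mul, ← map_mul, R0.outer_basic.2.2.1]
  · exact (K.pairs_ι R0.aa).trans R0.perm_aa.1
  · exact (K.pairs_ι R0.bb).trans R0.perm_aa.2

end Fin

end Cfsg.Agent.J2Sylow.Cfg
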