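import Mathlib
import Cfsg.Agent.EqLemmas

/-!
# A Sylow 2-subgroup of the Hall-Janko group: coordinates

* `Q0` : the extraspecial group of order 32 on four anticommuting involutions
* `R0` : its extension by a four-group permuting five pairs of involutions
-/

set_option autoImplicit false
set_option maxRecDepth 100000

namespace Cfsg.Agent.J2Sylow

/-- The extraspecial group of order 32. -/
structure Q0 where
  v0 : Bool
  v1 : Bool
  v2 : Bool
  v3 : Bool
  e : Bool
deriving DecidableEq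

namespace Q0

/-- The underlying tuples. -/
def equivProd : Q0 ≃ Bool × Bool × Bool × Bool × Bool where
  toFun q := (q.v0, q.v1, q.v2, q.v3, q.e)
  invFun p := ⟨p.1, p.2.1, p.2.2.1, p.2.2.2.1, p.2.2.2.2⟩

instance : Fintype Q0 := Fintype.ofEquiv _ equivProd.symm

/-- Multiplication. -/
def mul (q r : Q0) : Q0 :=
  ⟨xor q.v0 r.v0, xor q.v1 r.v1, xor q.v2 r.v2, xor q.v3 r.v3,
    xor (xor q.e r.e) (xor (xor (xor (q.v1 && r.v0) (q.v2 && r.v0)) (xor (q.v2 && r.v1) (q.v3 && r.v0)))
      (xor (q.v3 && r.v1) (q.v3 && r.v2)))⟩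

/-- The neutral element. -/
def one : Q0 := ⟨false, false, false, false, false⟩

/-- Inversion. -/
def inv (q : Q0) : Q0 := ⟨q.v0, q.v1, q.v2, q.v3, xor q.e (mul q q).e⟩

instance : Mul Q0 := ⟨mul⟩
instance : One Q0 := ⟨one⟩
instance : Inv Q0 := ⟨inv⟩

theorem mul_assoc' : ∀ a b c : Q0, a * b * c = a * (b * c) := by decide +kernel
theorem one_mul' : ∀ a : Q0, 1 * a = a := by decide +kernel
theorem inv_mul' : ∀ a : Q0, a⁻¹ * a = 1 := by decide +kernel

instance : Group Q0 := Group.ofLeftAxioms mul_assoc' one_mul' inv_mul'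

/-- The first outer automorphism. -/
def alpha (q : Q0) : Q0 := ⟨q.v2, q.v3, q.v0, q.v1, xor q.e (xor q.v0 q.v1 && xor q.v2 q.v3)⟩

/-- The second outer automorphism. -/
def beta (q : Q0) : Q0 := ⟨q.v1, q.v0, q.v3, q.v2, xor (xor q.e (q.v0 && q.v1)) (q.v2 && q.v3)⟩

/-- The action of the four-group. -/
def act (s t : Bool) (q : Q0) : Q0 :=
  bif s then (bif t then alpha (beta q) else alpha q) else (bif t then beta q else q)

theorem act_mul : ∀ (s t : Bool) (q r : Q0), act s t (q * r) = act s t q * act s t r := by decide +kernel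

theorem act_act : ∀ (s t s' t' : Bool) (q : Q0), act s t (act s' t' q) = act (xor s s') (xor t t') q := by
  decide +kernel

end Q0

/-- The Sylow 2-subgroup of order 128. -/
structure R0 where
  q : Q0
  s : Bool
  t : Bool
deriving DecidableEq

namespace R0

/-- The underlying tuples. -/
def equivProd : R0 ≃ Q0 × Bool × Bool where
  toFun x := (x.q, x.s, x.t)
  invFun p := ⟨p.1, p.2.1, p.2.2⟩

instance : Fintype R0 := Fintype.ofEquiv _ equivProd.symm

instance : Mul R0 := ⟨fun x y => ⟨x.q * Q0.act x.s x.t y.q, xor x.s y.s, xor x.t y.t⟩⟩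
instance : One R0 := ⟨⟨1, false, false⟩⟩
instance : Inv R0 := ⟨fun x => ⟨(Q0.act x.s x.t x.q)⁻¹, x.s, x.t⟩⟩

theorem mul_def (x y : R0) :
    x * y = ⟨x.q * Q0.act x.s x.t y.q, xor x.s y.s, xor x.t y.t⟩ := rfl

theorem mul_assoc' (x y w : R0) : x * y * w = x * (y * w) := by
  simp only [mul_def, R0.mk.injEq, Q0.act_mul, Q0.act_act, mul_assoc, Bool.xor_assoc, true_and, and_self]

theorem one_mul' : ∀ x : R0, 1 * x = x := by decide +kernel
theorem inv_mul' : ∀ x : R0, x⁻¹ * x = 1 := by decide +kernel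

instance : Group R0 := Group.ofLeftAxioms mul_assoc' one_mul' inv_mul'

theorem natCard : Nat.card R0 = 128 := by
  rw [Nat.card_eq_fintype_card]
  decide +kernel

/-- The central involution. -/
def z : R0 := ⟨⟨false, false, false, false, true⟩, false, false⟩

/-- The five involutions. -/
def u : Fin 5 → R0 :=
  ![⟨⟨true, false, false, false, false⟩, false, false⟩, ⟨⟨false, true, false, false, false⟩, false, false⟩,
    ⟨⟨false, false, true, false, false⟩, false, false⟩, ⟨⟨false, false, false, true, false⟩, false, false⟩,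
    ⟨⟨true, true, true, true, false⟩, false, false⟩]

/-- The first outer involution. -/
def aa : R0 := ⟨1, true, false⟩

/-- The second outer involution. -/
def bb : R0 := ⟨1, false, true⟩

/-- Membership in the extraspecial subgroup. -/
abbrev inQ (x : R0) : Prop := x.s = false ∧ x.t = false

/-- Membership in the centraliser of the last involution. -/
abbrev inB (x : R0) : Prop := x * u 4 = u 4 * x

/-- Membership in the four-group containing the centre. -/
abbrev inV (x : R0) : Prop := x = 1 ∨ x = z ∨ x = u 4 ∨ x = u 4 * z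

theorem z_comm : ∀ x : R0, x * z = z * x := by decide +kernel

theorem center_cases : ∀ x : R0, (∀ y, x * y = y * x) → x = 1 ∨ x = z := by decide +kernel

theorem u_basic : (∀ i : Fin 5, u i * u i = 1 ∧ u i ≠ 1 ∧ u i ≠ z ∧ inQ (u i)) ∧
    (∀ i j : Fin 5, i ≠ j → u i * u j = u j * u i * z ∧ u i ≠ u j ∧ u i ≠ u j * z) ∧ z * z = 1 ∧ z ≠ 1 := by
  decide +kernel

theorem outer_basic : aa * aa = 1 ∧ bb * bb = 1 ∧ aa * bb = bb * aa ∧ inB aa ∧ inB bb ∧ ¬ inB (u 0) ∧
    ¬ inQ aa ∧ ¬ inQ bb ∧ ¬ inQ (aa * bb) := by decide +kernel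

theorem u_four_conj : ∀ x : R0, x * u 4 * x⁻¹ = u 4 ∨ x * u 4 * x⁻¹ = u 4 * z := by decide +kernel

theorem comm_V : ∀ x v : R0, inB x → inV v → x * v = v * x := by decide +kernel

theorem center_B : ∀ v : R0, (∀ x, inB x → x * v = v * x) → inV v := by decide +kernel

theorem target : ∀ y : R0, y * y = 1 → inB y → inV y ∨ ∀ x, x * y = y * x → x * x = 1 := by decide +kernel

theorem sq_sq : ∀ x : R0, x * x * (x * x) = 1 → inV (x * x) := by decide +kernel

theorem sq_B : ∀ x : R0, inB x → inV (x * x) := by decide +kernel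

theorem big_centralizer : ∀ y : R0, y * y = 1 → inV y ∨
    (Finset.univ.filter fun x : R0 => x * y = y * x).card ≤ 32 := by decide +kernel

theorem card_B : (Finset.univ.filter fun x : R0 => inB x).card = 64 := by decide +kernel

theorem inQ_of_sq_eq_z : ∀ x : R0, inB x → x * x = z → inQ x := by decide +kernel

theorem cent_u_zero : (∀ x : R0, x * u 0 = u 0 * x → inQ x ∧ ∃ i j k l : Bool,
      x = (bif i then u 0 else 1) * (bif j then u 1 * u 2 else 1) * (bif k then u 2 * u 3 else 1) *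
        (bif l then z else 1)) ∧
    u 1 * u 2 * u 0 = u 0 * (u 1 * u 2) ∧ u 2 * u 3 * u 0 = u 0 * (u 2 * u 3) ∧
    u 1 * u 2 * (u 1 * u 2) = z ∧ u 2 * u 3 * (u 2 * u 3) = z := by decide +kernel

theorem center_cent_u_zero : ∀ y : R0, y * y = 1 → y * u 0 = u 0 * y → y * (u 1 * u 2) = u 1 * u 2 * y →
    y * (u 2 * u 3) = u 2 * u 3 * y → y = 1 ∨ y = z ∨ y = u 0 ∨ y = u 0 * z := by decide +kernel

theorem card_cent_u_zero : (Finset.univ.filter fun x : R0 => x * u 0 = u 0 * x).card = 16 ∧
    (Finset.univ.filter fun x : R0 => inB x ∧ inQ x).card = 16 ∧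
    (Finset.univ.filter fun x : R0 => inQ x).card = 32 := by
  decide +kernel

theorem outside : ∀ x : R0, ¬ inQ x → (x * x = 1 ∨ x * x = z) → x * x = 1 ∧ inB x ∧
    (∀ y, y * x = x * y → y * y = 1 ∧ inB y) ∧ x * u 4 = u 4 * x ∧
    (Finset.univ.filter fun y : R0 => y * x = x * y).card = 16 := by decide +kernel

/-- The conjugate by the first involution. -/
abbrev flip (x : R0) : R0 := u 0 * x * u 0

theorem outside_pair : ∀ x : R0, ¬ inQ x → x * x = 1 → ∀ y : R0, y * y = 1 → inB y → ¬ inV y →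
    (∀ w, w * y = y * w ↔ w * x = x * w) ∨ (∀ w, w * y = y * w ↔ w * flip x = flip x * w) := by
  decide +kernel

theorem flip_ne : ∀ x : R0, ¬ inQ x → x * x = 1 → ∃ w, w * x = x * w ∧ ¬ w * flip x = flip x * w := by
  decide +kernel

theorem inQ_cent : ∀ y : R0, y * y = 1 → inQ y → ¬ inV y → ∃ w, w * y = y * w ∧ w * w ≠ 1 := by
  decide +kernel

theorem coset_reps : ∀ x : R0, ¬ inQ x → (x * x = 1 ∨ x * x = z) → ∃ q : R0, inQ q ∧
    (q * x * q⁻¹ = ⟨1, x.s, x.t⟩ ∨ q * x * q⁻¹ = ⟨1, x.s, x.t⟩ * z) := by decide +kernel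

theorem inQ_cases : ∀ x : R0, inQ x → x = 1 ∨ x = z ∨ (∃ i, x = u i ∨ x = u i * z) ∨
    ∃ i j, i ≠ j ∧ x = u i * u j := by decide +kernel

theorem generated : ∀ x : R0, ∃ a b c d e f g : Bool,
    x = (bif a then u 0 else 1) * (bif b then u 1 else 1) * (bif c then u 2 else 1) * (bif d then u 3 else 1) *
      (bif e then z else 1) * (bif f then aa else 1) * (bif g then bb else 1) := by decide +kernel

end R0

end Cfsg.Agent.J2Sylow
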