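import Cfsg.Agent.Lib.J2Sylow.Frame

/-!
# Further facts about the coordinates
-/

set_option autoImplicit false
set_option maxRecDepth 100000

namespace Cfsg.Agent.J2Sylow.R0

/-- The permutation of the five pairs induced by an element. -/
def perm (r : R0) : Equiv.Perm (Fin 5) := (bif r.s then vA else 1) * (bif r.t then vB else 1)

theorem perm_tab : ∀ (s t : Bool) (i : Fin 5), ((bif s then vA else 1) * (bif t then vB else 1)) i =
    bif s then (bif t then (![3, 2, 1, 0, 4] : Fin 5 → Fin 5) i else ![2, 3, 0, 1, 4] i)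
      else (bif t then ![1, 0, 3, 2, 4] i else i) := by decide +kernel

theorem conj_u_tab : ∀ (r : R0) (i : Fin 5),
    r * u i * r⁻¹ = u (bif r.s then (bif r.t then (![3, 2, 1, 0, 4] : Fin 5 → Fin 5) i else ![2, 3, 0, 1, 4] i)
      else (bif r.t then ![1, 0, 3, 2, 4] i else i)) ∨
    r * u i * r⁻¹ = u (bif r.s then (bif r.t then (![3, 2, 1, 0, 4] : Fin 5 → Fin 5) i else ![2, 3, 0, 1, 4] i)
      else (bif r.t then ![1, 0, 3, 2, 4] i else i)) * z := by decide +kernel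

theorem conj_u (r : R0) (i : Fin 5) :
    r * u i * r⁻¹ = u (perm r i) ∨ r * u i * r⁻¹ = u (perm r i) * z := by
  rw [show perm r i = _ from perm_tab r.s r.t i]
  exact conj_u_tab r i

theorem perm_eq_one : ∀ s t : Bool,
    ((bif s then vA else 1) * (bif t then vB else 1) : Equiv.Perm (Fin 5)) = 1 → s = false ∧ t = false := by
  decide +kernel

theorem inQ_mul : ∀ x y : R0, inQ x → inQ y → inQ (x * y) := by decide +kernel

theorem conj_inQ : ∀ x y : R0, inQ y → inQ (x * y * x⁻¹) := by decide +kernel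

theorem conj_inB : ∀ x y : R0, inB y → inB (x * y * x⁻¹) := by decide +kernel

theorem inQ_involution : ∀ x : R0, inQ x → x * x = 1 → x = 1 ∨ x = z ∨ ∃ i, x = u i ∨ x = u i * z := by
  decide +kernel

theorem inner_signs : ∀ e : Fin 5 → Bool, (u 0 * (bif e 0 then z else 1) * (u 1 * (bif e 1 then z else 1)) *
      (u 2 * (bif e 2 then z else 1)) * (u 3 * (bif e 3 then z else 1)) * (u 4 * (bif e 4 then z else 1)) = 1) →
    ∃ q : R0, inQ q ∧ ∀ i, q * u i * q⁻¹ = u i * bif e i then z else 1 := by decide +kernel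

theorem u_prod : u 0 * u 1 * u 2 * u 3 * u 4 = 1 ∧ aa * u 0 * aa = u 2 ∧ bb * u 0 * bb = u 1 := by
  decide +kernel

theorem cent_gens : ∀ x : R0, inQ x → (∀ i, x * u i = u i * x) → x = 1 ∨ x = z := by decide +kernel

theorem perm_mem : ∀ r : R0, perm r = 1 ∨ perm r = vA ∨ perm r = vB ∨ perm r = vA * vB := by
  intro r
  rcases r with ⟨q, s, t⟩
  cases s <;> cases t <;> simp [perm]

theorem perm_aa : perm aa = vA ∧ perm bb = vB := by decide +kernel

set_option synthInstance.maxSize 2048 in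
theorem perm_sigma : ∀ σ : Equiv.Perm (Fin 5), σ 0 = 0 → σ ≠ 1 → Equiv.Perm.sign σ = 1 → σ ^ 4 = 1 →
    ((vA * σ) ^ 3 = 1 ∧ vA * σ ≠ 1 ∧ (vB * σ) ^ 5 = 1 ∧ vB * σ ≠ 1) ∨
    ((vA * σ) ^ 5 = 1 ∧ vA * σ ≠ 1 ∧ (vB * σ) ^ 3 = 1 ∧ vB * σ ≠ 1) ∨
    ((vA * σ) ^ 5 = 1 ∧ vA * σ ≠ 1 ∧ (vA * vB * σ) ^ 3 = 1 ∧ vA * vB * σ ≠ 1) := by decide +kernel

end Cfsg.Agent.J2Sylow.R0
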