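import Cfsg.Agent.Lib.J2Sylow.ModelTwo
import Cfsg.Agent.Lib.TwoTimesPSL.Transfer

/-!
# A finite group whose Sylow 2-subgroups have the coordinates of `R0`

* `Cfg` : a Sylow 2-subgroup with coordinates
* `exists_fuse` : without subgroups of index two, some element of the centraliser of the central involution
  carries the centraliser of `u 0` in the Sylow subgroup onto that of `u 4` inside the extraspecial subgroup
-/

set_option autoImplicit false
set_option linter.style.haveILetI false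

open Subgroup

namespace Cfsg.Agent.J2Sylow

/-- A Sylow 2-subgroup with coordinates. -/
structure Cfg (G : Type*) [Group G] where
  S : Sylow 2 G
  ι : R0 →* G
  inj : Function.Injective ι
  range : ι.range = (S : Subgroup G)

namespace Cfg

variable {G : Type*} [Group G] (K : Cfg G)

/-- The central involution. -/
def z : G := K.ι R0.z

/-- The five involutions. -/
def u (i : Fin 5) : G := K.ι (R0.u i)

/-- The centraliser of `u 4` in the Sylow subgroup. -/
def B : Subgroup G := (K.S : Subgroup G) ⊓ centralizer ({K.u 4} : Set G)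

/-- The centraliser of `u 0` in the Sylow subgroup. -/
def D : Subgroup G := (K.S : Subgroup G) ⊓ centralizer ({K.u 0} : Set G)

/-- The five involutions as a frame. -/
def frame : Frame G where
  z := K.z
  u := K.u
  u_sq i := by rw [u, ← map_mul, (R0.u_basic.1 i).1, map_one]
  z_sq := by rw [z, ← map_mul, R0.u_basic.2.2.1, map_one]
  z_ne h := R0.u_basic.2.2.2 (K.inj (h.trans (map_one K.ι).symm))
  z_u i := by rw [z, u, ← map_mul, ← map_mul, R0.z_comm]
  anti i j h := by rw [z, u, u, ← map_mul, ← map_mul, ← map_mul, (R0.u_basic.2.1 i j h).1]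
  prod := by rw [u, u, u, u, u, ← map_mul, ← map_mul, ← map_mul, ← map_mul, R0.u_prod.1, map_one]

theorem ι_mem (r : R0) : K.ι r ∈ (K.S : Subgroup G) := K.range ▸ ⟨r, rfl⟩

theorem exists_ι {x : G} (hx : x ∈ (K.S : Subgroup G)) : ∃ r, K.ι r = x := by
  rw [← K.range] at hx; exact hx

theorem ι_comm {r r' : R0} : K.ι r * K.ι r' = K.ι r' * K.ι r ↔ r * r' = r' * r := by
  rw [← map_mul, ← map_mul, K.inj.eq_iff]

theorem mem_B {r : R0} : K.ι r ∈ K.B ↔ R0.inB r := by
  rw [B, mem_inf, mem_centralizer_singleton_iff, u, K.ι_comm]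
  exact ⟨fun h => h.2, fun h => ⟨K.ι_mem r, h⟩⟩

theorem mem_D {r : R0} : K.ι r ∈ K.D ↔ r * R0.u 0 = R0.u 0 * r := by
  rw [D, mem_inf, mem_centralizer_singleton_iff, u, K.ι_comm]
  exact ⟨fun h => h.2, fun h => ⟨K.ι_mem r, h⟩⟩

theorem card_of_mem {X : Subgroup G} (hX : X ≤ (K.S : Subgroup G)) (p : R0 → Prop) [DecidablePred p]
    (h : ∀ r, K.ι r ∈ X ↔ p r) : Nat.card X = (Finset.univ.filter p).card := by
  have e : (X : Set G) = K.ι '' {r | p r} := by
    ext x
    constructor
    · intro hx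
      obtain ⟨r, rfl⟩ := K.exists_ι (hX hx)
      exact ⟨r, (h r).1 hx, rfl⟩
    · rintro ⟨r, hr, rfl⟩
      exact (h r).2 hr
  rw [← SetLike.coe_sort_coe, e, Nat.card_coe_set_eq, Set.ncard_image_of_injective _ K.inj,
    ← Set.ncard_coe_finset]
  simp

theorem card_S : Nat.card (K.S : Subgroup G) = 128 := by
  rw [← K.range, Nat.card_congr (MonoidHom.ofInjective K.inj).symm.toEquiv, R0.natCard]

theorem card_B : Nat.card K.B = 64 := by
  rw [K.card_of_mem (X := K.B) inf_le_left R0.inB fun r => K.mem_B]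
  exact R0.card_B

theorem card_D : Nat.card K.D = 16 := by
  rw [K.card_of_mem (X := K.D) inf_le_left (fun r => r * R0.u 0 = R0.u 0 * r) fun r => K.mem_D]
  exact R0.card_cent_u_zero.1

theorem relIndex_B : K.B.relIndex (K.S : Subgroup G) = 2 := by
  have h := card_mul_index (K.B.subgroupOf (K.S : Subgroup G))
  have hle : K.B ≤ (K.S : Subgroup G) := inf_le_left
  rw [← relIndex, Nat.card_congr (subgroupOfEquivOfLe hle).toEquiv, K.card_B, K.card_S] at h
  omega

theorem z_comm {x : G} (hx : x ∈ (K.S : Subgroup G)) : x * K.z = K.z * x := by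
  obtain ⟨r, rfl⟩ := K.exists_ι hx
  exact K.ι_comm.2 (R0.z_comm r)

theorem S_le_centralizer : (K.S : Subgroup G) ≤ centralizer ({K.z} : Set G) :=
  fun _ hx => mem_centralizer_singleton_iff.2 (K.z_comm hx)

/-- A 2-subgroup of a subgroup containing the Sylow subgroup is conjugate into it. -/
theorem conj_into [Finite G] {X P : Subgroup G} (hX : (K.S : Subgroup G) ≤ X) (hPX : P ≤ X) (hP : IsPGroup 2 P) :
    ∃ c ∈ X, ∀ x ∈ P, c * x * c⁻¹ ∈ (K.S : Subgroup G) := by
  haveI : Fact (Nat.Prime 2) := ⟨Nat.prime_two⟩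
  obtain ⟨Q, hQ⟩ := (hP.comap_of_injective X.subtype X.subtype_injective).exists_le_sylow
  obtain ⟨c, hc⟩ := MulAction.exists_smul_eq X Q (K.S.subtype hX)
  refine ⟨c, c.2, fun x hx => ?_⟩
  have hm : c * ⟨x, hPX hx⟩ * c⁻¹ ∈ (K.S.subtype hX : Subgroup X) := by
    rw [← hc, Sylow.coe_subgroup_smul]
    exact (Subgroup.mem_map).2 ⟨⟨x, hPX hx⟩, hQ hx, rfl⟩
  rw [Sylow.coe_subtype, mem_subgroupOf] at hm
  exact hm

theorem sq_u_mul (i j : Fin 5) (h : i ≠ j) : K.u i * K.u j * (K.u i * K.u j) = K.z := by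
  have : ∀ i j : Fin 5, i ≠ j → R0.u i * R0.u j * (R0.u i * R0.u j) = R0.z := by decide +kernel
  simp only [u, z, ← map_mul, this i j h]

/-- The extremal conjugation of `u 0` inside the centraliser of the central involution. -/
theorem exists_fuse [Finite G] (hno : TwoTimesPSL.NoIndexTwo G) :
    ∃ h : G, h * K.z * h⁻¹ = K.z ∧ ∀ x ∈ K.D, ∃ r : R0, R0.inQ r ∧ R0.inB r ∧ K.ι r = h * x * h⁻¹ := by
  haveI : Fact (Nat.Prime 2) := ⟨Nat.prime_two⟩
  obtain ⟨hU, -, hzz, hz1⟩ := R0.u_basic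
  have hD2 : IsPGroup 2 K.D := K.S.2.to_le inf_le_left
  obtain ⟨g, hgM, hgD⟩ := TwoTimesPSL.exists_conj_extremal hno K.S K.B inf_le_left K.relIndex_B
    (K.frame.u_sq 0) K.D hD2 inf_le_right (show K.ι (R0.u 0) ∈ K.D from K.mem_D.2 rfl)
  change g * K.u 0 * g⁻¹ ∈ K.B at hgM
  have hu0 : K.u 0 * K.u 0 = 1 := K.frame.u_sq 0
  have hz0 : K.z * K.z = 1 := K.frame.z_sq
  obtain ⟨c0, c1, c2, c3, c4⟩ := R0.cent_u_zero
  obtain ⟨r0, hr0⟩ := K.exists_ι hgM.1
  have hr0B : R0.inB r0 := K.mem_B.1 (hr0 ▸ hgM)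
  have hsq : ∀ {x : G}, x * x = 1 → (g * x * g⁻¹) * (g * x * g⁻¹) = 1 := fun {x} h => by
    rw [conj_mul, h]; group
  have hr02 : r0 * r0 = 1 := K.inj (by rw [map_mul, hr0, hsq hu0, map_one])
  have hr01 : r0 ≠ 1 := fun e => (hU 0).2.1 (K.inj (by
    rw [e, map_one] at hr0
    exact (conj_eq_one_iff.1 hr0.symm).trans (map_one _).symm))
  have hqD : K.u 1 * K.u 2 ∈ K.D := by
    rw [u, u, ← map_mul]; exact K.mem_D.2 c1
  obtain ⟨xq, hxq⟩ := K.exists_ι (hgD _ hqD)
  -- the image of `z`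
  have hxq2 : K.ι (xq * xq) = g * K.z * g⁻¹ := by
    rw [map_mul, hxq, conj_mul, K.sq_u_mul 1 2 (by decide)]
  have hw1 : xq * xq ≠ 1 := fun e => hz1 (K.inj (by
    rw [e, map_one] at hxq2
    exact (conj_eq_one_iff.1 hxq2.symm).trans (map_one _).symm))
  have hwV : R0.inV (xq * xq) := R0.sq_sq xq (K.inj (by
    rw [map_mul, hxq2, hsq hz0, map_one]))
  have hy : R0.inV r0 := by
    rcases R0.target r0 hr02 hr0B with h | h
    · exact h
    · refine absurd (h xq (K.ι_comm.1 ?_)) hw1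
      rw [hxq, hr0, conj_mul, conj_mul, show K.u 1 * K.u 2 * K.u 0 = K.u 0 * (K.u 1 * K.u 2) by
        rw [u, u, u, ← map_mul, ← map_mul, ← map_mul, c1]]
  have hcomm : ∀ x ∈ K.D, ∀ r, K.ι r = g * x * g⁻¹ → r * (xq * xq) = xq * xq * r := by
    intro x hx r hr
    refine K.ι_comm.1 ?_
    rw [hr, hxq2, conj_mul, conj_mul, K.z_comm hx.1]
  have hne : g * K.u 0 * g⁻¹ ≠ g * K.z * g⁻¹ := fun e =>
    (hU 0).2.2.1 (K.inj (mul_left_cancel (mul_right_cancel e)))
  -- move the image of `z` back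
  obtain ⟨k, hkz, hkB, hku⟩ : ∃ k : G, k * (g * K.z * g⁻¹) * k⁻¹ = K.z ∧
      (∀ x ∈ K.D, k * (g * x * g⁻¹) * k⁻¹ ∈ K.B) ∧ ∃ r, R0.inV r ∧ K.ι r = k * (g * K.u 0 * g⁻¹) * k⁻¹ := by
    rcases hwV with h | h | h | h
    · exact absurd h hw1
    · -- fixed
      have hw : g * K.z * g⁻¹ = K.z := by rw [← hxq2, h]; rfl
      refine ⟨1, by rw [hw]; group, fun x hx => ?_, r0, hy, by rw [hr0]; group⟩
      rw [one_mul, inv_one, mul_one]
      obtain ⟨r, hr⟩ := K.exists_ι (hgD x hx)
      rw [← hr, K.mem_B]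
      have hc0 : r * r0 = r0 * r := K.ι_comm.1 (by
        rw [hr, hr0, conj_mul, conj_mul, mem_centralizer_singleton_iff.1 hx.2])
      rcases hy with e | e | e | e
      · exact absurd e hr01
      · exact absurd (by rw [← hr0, hw, e]; rfl) hne
      · rwa [e] at hc0
      · rw [e, ← mul_assoc, mul_assoc (R0.u 4), ← R0.z_comm r, ← mul_assoc] at hc0
        exact mul_right_cancel hc0
    all_goals
      set w := g * K.z * g⁻¹ with hwdef
      have hcB : ∀ r : R0, r * (xq * xq) = xq * xq * r → R0.inB r := by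
        intro r hc
        rw [h] at hc
        first
          | exact hc
          | (rw [← mul_assoc, mul_assoc (R0.u 4), ← R0.z_comm r, ← mul_assoc] at hc
             exact mul_right_cancel hc)
      have hwc : ∀ b ∈ K.B, b * w = w * b := by
        intro b hb
        obtain ⟨r, rfl⟩ := K.exists_ι hb.1
        rw [← hxq2]
        exact K.ι_comm.2 (R0.comm_V r _ (K.mem_B.1 hb) (h ▸ by first | exact Or.inr (Or.inr (Or.inl rfl)) |
          exact Or.inr (Or.inr (Or.inr rfl))))
      set B1 : Subgroup G := K.B.map (MulAut.conj g⁻¹).toMonoidHom with hB1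
      have hB1C : B1 ≤ centralizer ({K.z} : Set G) := by
        rintro _ ⟨b, hb, rfl⟩
        refine mem_centralizer_singleton_iff.2 ?_
        have := congrArg (fun x => g⁻¹ * x * g) (hwc b hb)
        simpa [hwdef, mul_assoc] using this
      have hB2 : IsPGroup 2 K.B := K.S.2.to_le inf_le_left
      obtain ⟨c, hc, hcS⟩ := K.conj_into K.S_le_centralizer hB1C (hB2.map _)
      rw [mem_centralizer_singleton_iff] at hc
      have hkw : c * g⁻¹ * w * (c * g⁻¹)⁻¹ = K.z := by
        rw [hwdef, show c * g⁻¹ * (g * K.z * g⁻¹) * (c * g⁻¹)⁻¹ = c * K.z * c⁻¹ by group, hc,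
          mul_inv_cancel_right]
      have hkS : ∀ b ∈ K.B, c * g⁻¹ * b * (c * g⁻¹)⁻¹ ∈ (K.S : Subgroup G) := fun b hb => by
        have := hcS _ (mem_map_of_mem _ hb)
        simpa [MulAut.conj_apply, mul_assoc] using this
      set k := c * g⁻¹ with hkdef
      -- `z` goes to an element of the four-group
      have hzB : K.z ∈ K.B := K.mem_B.2 (R0.z_comm _).symm
      obtain ⟨x, hx⟩ := K.exists_ι (hkS _ hzB)
      have hxne : x ≠ 1 ∧ x ≠ R0.z := by
        refine ⟨fun e => hz1 (K.inj ?_), fun e => hw1 ?_⟩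
        · rw [e, map_one] at hx
          exact (conj_eq_one_iff.1 hx.symm).trans (map_one _).symm
        · rw [e] at hx
          have hwz : w = K.z := mul_left_cancel (mul_right_cancel (hkw.trans hx))
          have : xq * xq = R0.z := K.inj (hxq2.trans hwz)
          rw [h] at this
          exact absurd this (by decide +kernel)
      have hx2 : x * x = 1 := K.inj (by
        rw [map_mul, hx, conj_mul, hz0]; simp)
      have hxV : R0.inV x := by
        rcases R0.big_centralizer x hx2 with e | e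
        · exact e
        · exfalso
          have hsub : K.B.map (MulAut.conj k).toMonoidHom ≤
              (K.S : Subgroup G) ⊓ centralizer ({K.ι x} : Set G) := by
            rintro _ ⟨b, hb, rfl⟩
            refine ⟨hkS b hb, mem_centralizer_singleton_iff.2 ?_⟩
            show k * b * k⁻¹ * K.ι x = K.ι x * (k * b * k⁻¹)
            rw [hx, conj_mul, conj_mul, K.z_comm hb.1]
          have hcard := Nat.le_of_dvd Nat.card_pos (card_dvd_of_le hsub)
          rw [Subgroup.card_map_of_injective (MulAut.conj k).injective, K.card_B,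
            K.card_of_mem inf_le_left (fun r => r * x = x * r) fun r => by
              rw [mem_inf, mem_centralizer_singleton_iff, K.ι_comm]
              exact ⟨fun h => h.2, fun h => ⟨K.ι_mem r, h⟩⟩] at hcard
          omega
      have hkle : K.B.map (MulAut.conj k).toMonoidHom ≤ K.B := by
        rintro _ ⟨b, hb, rfl⟩
        obtain ⟨r, hr⟩ := K.exists_ι (hkS b hb)
        show k * b * k⁻¹ ∈ K.B
        rw [← hr, K.mem_B]
        have hc0 : r * x = x * r := K.ι_comm.1 (by rw [hr, hx, conj_mul, conj_mul, K.z_comm hb.1])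
        rcases hxV with e | e | e | e
        · exact absurd e hxne.1
        · exact absurd e hxne.2
        · rwa [e] at hc0
        · rw [e, ← mul_assoc, mul_assoc (R0.u 4), ← R0.z_comm r, ← mul_assoc] at hc0
          exact mul_right_cancel hc0
      have hkeq : K.B.map (MulAut.conj k).toMonoidHom = K.B := Subgroup.eq_of_le_of_card_ge hkle
        (by rw [Subgroup.card_map_of_injective (MulAut.conj k).injective])
      refine ⟨k, hkw, fun y hy' => ?_, ?_⟩
      · obtain ⟨r, hr⟩ := K.exists_ι (hgD y hy')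
        refine hkle ⟨_, ?_, rfl⟩
        rw [← hr]
        exact K.mem_B.2 (hcB r (hcomm y hy' r hr))
      · obtain ⟨rk, hrk⟩ := K.exists_ι (hkle ⟨_, hgM, rfl⟩).1
        refine ⟨rk, R0.center_B rk fun b hb => K.ι_comm.1 ?_, hrk⟩
        obtain ⟨b', hb', hbb⟩ := hkeq.ge (K.mem_B.2 hb)
        rw [← hbb, hrk]
        show k * b' * k⁻¹ * (k * _ * k⁻¹) = k * _ * k⁻¹ * (k * b' * k⁻¹)
        rw [conj_mul, conj_mul]
        congr 2
        rw [← hr0]
        obtain ⟨rb, rfl⟩ := K.exists_ι hb'.1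
        exact K.ι_comm.2 (R0.comm_V rb r0 (K.mem_B.1 hb') hy)
  have hz : k * g * K.z * (k * g)⁻¹ = K.z := by
    rw [show k * g * K.z * (k * g)⁻¹ = k * (g * K.z * g⁻¹) * k⁻¹ by group, hkz]
  refine ⟨k * g, hz, fun x hx => ?_⟩
  have hxB : ∀ y ∈ K.D, k * g * y * (k * g)⁻¹ ∈ K.B := fun y hy' => by
    rw [show k * g * y * (k * g)⁻¹ = k * (g * y * g⁻¹) * k⁻¹ by group]
    exact hkB y hy'
  have conjQ : ∀ y : R0, y * R0.u 0 = R0.u 0 * y → y * y = R0.z →
      ∃ r, R0.inQ r ∧ K.ι r = k * g * K.ι y * (k * g)⁻¹ := by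
    intro y hy' hy2
    have hm := hxB _ (K.mem_D.2 hy')
    obtain ⟨r, hr⟩ := K.exists_ι hm.1
    refine ⟨r, R0.inQ_of_sq_eq_z r (K.mem_B.1 (hr ▸ hm)) (K.inj ?_), hr⟩
    rw [map_mul, hr, conj_mul, ← map_mul, hy2]
    exact hz
  have hm := hxB x hx
  obtain ⟨r, hr⟩ := K.exists_ι hm.1
  refine ⟨r, ?_, K.mem_B.1 (hr ▸ hm), hr⟩
  obtain ⟨ru, hru, hru'⟩ := hku
  obtain ⟨q1, hq1, hq1'⟩ := conjQ _ c1 c3
  obtain ⟨q2, hq2, hq2'⟩ := conjQ _ c2 c4
  obtain ⟨rx, rfl⟩ := K.exists_ι hx.1
  obtain ⟨-, i, j, l, m, rfl⟩ := c0 rx (K.mem_D.1 hx)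
  have e : r = (bif i then ru else 1) * (bif j then q1 else 1) * (bif l then q2 else 1) *
      (bif m then R0.z else 1) := by
    refine K.inj ?_
    rw [hr]
    simp only [map_mul, ← conj_mul]
    congr 1
    congr 1
    congr 1
    · cases i
      · simp
      · simp only [cond_true]
        rw [hru', u]; group
    · cases j
      · simp
      · simp only [cond_true]
        rw [hq1', map_mul]
    · cases l
      · simp
      · simp only [cond_true]
        rw [hq2', map_mul]
    · cases m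
      · simp
      · simp only [cond_true]
        exact hz
  rw [e]
  have hbif : ∀ (b : Bool) (q : R0), R0.inQ q → R0.inQ (bif b then q else 1) := fun b q hq => by
    cases b
    · exact ⟨rfl, rfl⟩
    · exact hq
  have hruQ : R0.inQ ru := by
    have : ∀ v, R0.inV v → R0.inQ v := by decide +kernel
    exact this ru hru
  exact R0.inQ_mul _ _ (R0.inQ_mul _ _ (R0.inQ_mul _ _ (hbif _ _ hruQ) (hbif _ _ hq1)) (hbif _ _ hq2))
    (hbif _ _ ⟨rfl, rfl⟩)

end Cfg

end Cfsg.Agent.J2Sylow
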